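import Cfsg.Agent.H3.BSW
import Cfsg.Agent.H2.NPCe

/-! Groups all of whose elements have prime power order: basics, and the case of a
trivial-intersection Sylow `2`-subgroup. -/

set_option autoImplicit false

namespace Cfsg.Agent.L0.EP

open Subgroup H3.BSW

variable {G : Type*} [Group G]

/-- every non-identity element has prime power order -/
def EPPO (G : Type*) [Group G] : Prop := ∀ g : G, g ≠ 1 → IsPrimePow (orderOf g)

/-- `p`-element -/
def PE (p : ℕ) (x : G) : Prop := ∃ k, x ^ p ^ k = 1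

theorem EPPO.of_inj {H : Type*} [Group H] (h : EPPO G) (f : H →* G) (hf : Function.Injective f) :
    EPPO H := fun g hg => by
  rw [← orderOf_injective f hf]
  exact h _ fun e => hg (hf (e.trans (map_one f).symm))

theorem EPPO.sub (h : EPPO G) (H : Subgroup G) : EPPO H := h.of_inj H.subtype H.subtype_injective

theorem EPPO.of_surj {H : Type*} [Group H] (h : EPPO G) (f : G →* H) (hf : Function.Surjective f) :
    EPPO H := fun g hg => by
  obtain ⟨x, rfl⟩ := hf g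
  obtain ⟨p, k, hp, -, e⟩ := (isPrimePow_nat_iff _).1 (h x fun e => hg (by rw [e, map_one]))
  obtain ⟨j, -, hj⟩ := (Nat.dvd_prime_pow hp).1 (e ▸ orderOf_map_dvd f x)
  refine (isPrimePow_nat_iff _).2 ⟨p, j, hp, Nat.pos_of_ne_zero fun e => hg ?_, hj.symm⟩
  rw [← orderOf_eq_one_iff, hj, e, pow_zero]

theorem pe_one (p : ℕ) : PE p (1 : G) := ⟨0, one_pow _⟩

theorem PE.pow {p : ℕ} {x : G} (h : PE p x) (m : ℕ) : PE p (x ^ m) := by
  obtain ⟨k, hk⟩ := h
  exact ⟨k, by rw [← pow_mul, mul_comm, pow_mul, hk, one_pow]⟩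

theorem PE.conj {p : ℕ} {x : G} (h : PE p x) (g : G) : PE p (g * x * g⁻¹) := by
  obtain ⟨k, hk⟩ := h
  exact ⟨k, by rw [conj_pow, hk]; simp⟩

theorem PE.of_sq {x : G} (h : PE 2 (x * x)) : PE 2 x := by
  obtain ⟨k, hk⟩ := h
  exact ⟨k + 1, by rw [pow_succ', pow_mul, pow_two, hk]⟩

theorem pe_of_mem {p : ℕ} {P : Subgroup G} (hP : IsPGroup p P) {x : G} (hx : x ∈ P) : PE p x := by
  obtain ⟨k, hk⟩ := hP ⟨x, hx⟩
  exact ⟨k, congrArg Subtype.val hk⟩

theorem isPGroup_of_pe {p : ℕ} {P : Subgroup G} (h : ∀ x ∈ P, PE p x) : IsPGroup p P := fun x => by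
  obtain ⟨k, hk⟩ := h x x.2
  exact ⟨k, Subtype.ext hk⟩

theorem pe_of_sq {x : G} (h : x * x = 1) : PE 2 x := ⟨1, by simpa [pow_two] using h⟩

theorem PE.eq_one_of_coprime {p m : ℕ} {x : G} (h : PE p x) (hm : x ^ m = 1) (hc : p.Coprime m) :
    x = 1 := by
  obtain ⟨k, hk⟩ := h
  have := (pow_gcd_eq_one.2 ⟨hk, hm⟩)
  rwa [Nat.Coprime.pow_left k hc, pow_one] at this

theorem PE.eq_one {x : G} (h : PE 2 x) (ho : Odd (orderOf x)) : x = 1 :=
  h.eq_one_of_coprime (pow_orderOf_eq_one x) (Nat.coprime_two_left.2 ho)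

theorem EPPO.pe_of_dvd (h : EPPO G) {p : ℕ} (hp : p.Prime) {x : G} (hx : p ∣ orderOf x) : PE p x := by
  by_cases h1 : x = 1
  · exact h1 ▸ pe_one p
  obtain ⟨q, k, hq, -, e⟩ := (isPrimePow_nat_iff _).1 (h x h1)
  rw [← e] at hx
  obtain rfl := (Nat.prime_dvd_prime_iff_eq hp hq).1 (hp.dvd_of_dvd_pow hx)
  exact ⟨k, by rw [e, pow_orderOf_eq_one]⟩

theorem PE.dvd {p : ℕ} (hp : p.Prime) {x : G} (h : PE p x) (h1 : x ≠ 1) : p ∣ orderOf x := by
  by_contra e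
  exact h1 (h.eq_one_of_coprime (pow_orderOf_eq_one x) ((Nat.Prime.coprime_iff_not_dvd hp).2 e))

theorem EPPO.exists_pe (h : EPPO G) (x : G) : ∃ p, p.Prime ∧ PE p x := by
  by_cases h1 : x = 1
  · exact ⟨2, Nat.prime_two, h1 ▸ pe_one 2⟩
  obtain ⟨q, k, hq, -, e⟩ := (isPrimePow_nat_iff _).1 (h x h1)
  exact ⟨q, hq, k, by rw [e, pow_orderOf_eq_one]⟩

theorem EPPO.pe_of_comm (h : EPPO G) {p : ℕ} (hp : p.Prime) {x y : G} (hc : Commute x y)
    (hx : PE p x) (h1 : x ≠ 1) : PE p y := by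
  obtain ⟨q, hq, k, hk⟩ := h.exists_pe y
  by_cases e : p = q
  · exact e ▸ ⟨k, hk⟩
  obtain ⟨r, hr, j, hj⟩ := h.exists_pe (x * y)
  rw [hc.mul_pow] at hj
  have h2 : (x ^ r ^ j) ^ q ^ k = 1 := by
    rw [eq_inv_of_mul_eq_one_left hj, inv_pow, ← pow_mul, mul_comm, pow_mul, hk, one_pow, inv_one]
  have h3 : x ^ r ^ j = 1 :=
    (hx.pow _).eq_one_of_coprime h2 (((Nat.coprime_primes hp hq).2 e).pow_right _)
  rw [h3, one_mul] at hj
  by_cases e' : p = r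
  · exact e' ▸ ⟨j, hj⟩
  · exact absurd (hx.eq_one_of_coprime h3 (((Nat.coprime_primes hp hr).2 e').pow_right _)) h1

theorem EPPO.pe_or_odd (h : EPPO G) (x : G) : PE 2 x ∨ Odd (orderOf x) := by
  rcases Nat.even_or_odd (orderOf x) with e | e
  · exact Or.inl (h.pe_of_dvd Nat.prime_two e.two_dvd)
  · exact Or.inr e

theorem EPPO.eq_one_of_comm (h : EPPO G) {x y : G} (hc : Commute x y) (hx : PE 2 x) (h1 : x ≠ 1)
    (hy : Odd (orderOf y)) : y = 1 :=
  (h.pe_of_comm Nat.prime_two hc hx h1).eq_one hy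

theorem EPPO.fpf (h : EPPO G) {x y : G} (hc : Commute x y) (hx : PE 2 x)
    (hy : Odd (orderOf y)) (h1 : y ≠ 1) : x = 1 := by
  by_contra e
  exact h1 (h.eq_one_of_comm hc hx e hy)

theorem odd_pow {x : G} (h : Odd (orderOf x)) (m : ℕ) : Odd (orderOf (x ^ m)) :=
  h.of_dvd_nat (orderOf_pow_dvd m)

theorem odd_conj {x : G} (h : Odd (orderOf x)) (g : G) : Odd (orderOf (g * x * g⁻¹)) := by
  rwa [H2.orderOf_conj']

theorem eq_one_of_odd_sq {x : G} (h : Odd (orderOf x)) (e : x * x = 1) : x = 1 :=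
  (pe_of_sq e).eq_one h

theorem comm_of_conj {g x : G} (h : g * x * g⁻¹ = x) : Commute g x := mul_inv_eq_iff_eq_mul.1 h

theorem lang [Finite G] {D : Subgroup G} {c : G} (hn : ∀ x ∈ D, c⁻¹ * x * c ∈ D)
    (hf : ∀ x ∈ D, Commute x c → x = 1) {d : G} (hd : d ∈ D) : ∃ x ∈ D, c * d = x * c * x⁻¹ := by
  let f : D → D := fun x => ⟨c⁻¹ * x * c * x⁻¹, mul_mem (hn _ x.2) (inv_mem x.2)⟩
  have hi : Function.Injective f := fun x y e => by
    have e1 : c⁻¹ * x * c * (x : G)⁻¹ = c⁻¹ * y * c * (y : G)⁻¹ := congrArg Subtype.val e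
    have := hf ((y : G)⁻¹ * x) (mul_mem (inv_mem y.2) x.2) (by
      change _ = _
      calc (y : G)⁻¹ * x * c = (y : G)⁻¹ * c * (c⁻¹ * x * c * (x : G)⁻¹) * x := by group
        _ = _ := by rw [e1]; group)
    exact Subtype.ext (inv_mul_eq_one.1 this).symm
  obtain ⟨x, hx⟩ := Finite.surjective_of_injective hi ⟨d, hd⟩
  have e1 : c⁻¹ * x * c * (x : G)⁻¹ = d := congrArg Subtype.val hx
  exact ⟨x, x.2, by rw [← e1]; group⟩

theorem swap_of_odd {u v : G} (hu : Iv u) (hv : Iv v) (ho : Odd (orderOf (u * v))) :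
    ∃ w, w * w = 1 ∧ w * u * w⁻¹ = v := by
  obtain ⟨m, hm⟩ := exists_sqrt ho
  have h1 := inv_pow_conj (inverts_mul hu hv) m
  set y := (u * v) ^ m with hy
  have h2 : u * y * (u * y) = 1 := by
    rw [hu.inv] at h1
    rw [← mul_assoc, h1, inv_mul_cancel]
  refine ⟨u * y, h2, ?_⟩
  rw [inv_eq_of_mul_eq_one_right h2]
  calc u * y * u * (u * y) = u * (y * (u * u) * y) := by group
    _ = v := by rw [hu.1, mul_one, hm, ← mul_assoc, hu.1, one_mul]

theorem exists_iv_comm [Finite G] {u v : G} (hu : Iv u) (hv : Iv v) (ho : ¬ Odd (orderOf (u * v))) :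
    ∃ z, Iv z ∧ Commute u z ∧ Commute v z := by
  obtain ⟨k, hk⟩ := exists_iv_pow ho
  have h1 := inv_pow_conj (inverts_mul hu hv) k
  rw [hk.inv] at h1
  have h2 := comm_of_conj h1
  refine ⟨_, hk, h2, ?_⟩
  simpa [← mul_assoc, hu.1] using h2.mul_left (Commute.self_pow (u * v) k)

theorem exists_central_iv [Finite G] {P : Subgroup G} (hP : IsPGroup 2 P) (h0 : P ≠ ⊥) :
    ∃ z ∈ P, Iv z ∧ ∀ y ∈ P, Commute y z := by
  obtain ⟨⟨z, hz⟩, h1⟩ := ne_bot_iff_exists_ne_one.1 (H2.Z1_ne_bot hP h0)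
  exact ⟨z, hz.1, ⟨by simpa [pow_two] using hz.2.1, fun e => h1 (Subtype.ext e)⟩,
    fun y hy => (hz.2.2 y hy).symm⟩

theorem mem_of_smul_eq {p : ℕ} [Fact p.Prime] {P : Sylow p G} {x : G} (hx : PE p x) (h : x • P = P) :
    x ∈ P := by
  obtain ⟨k, hk⟩ := hx
  have h1 : IsPGroup p (zpowers x) := isPGroup_of_pe fun y hy => by
    obtain ⟨j, rfl⟩ := hy
    exact ⟨k, by rw [← zpow_natCast, ← zpow_mul, mul_comm, zpow_mul, zpow_natCast, hk, one_zpow]⟩
  have := h1.inf_normalizer_sylow P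
  have h2 : x ∈ zpowers x ⊓ normalizer (P : Set G) :=
    ⟨mem_zpowers x, Sylow.smul_eq_iff_mem_normalizer.1 h⟩
  rw [this] at h2
  exact h2.2

theorem conj_mem_smul {p : ℕ} {P : Sylow p G} {x : G} (hx : x ∈ P) (g : G) : g * x * g⁻¹ ∈ g • P :=
  (H3.mem_sylow_smul P g _).2 (by rw [show g⁻¹ * (g * x * g⁻¹) * g = x by group]; exact hx)

theorem smul_eq_of_mem {p : ℕ} {P : Sylow p G} {x : G} (hx : x ∈ P) : x • P = P :=
  Sylow.smul_eq_iff_mem_normalizer.2 (le_normalizer hx)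

theorem conj_mem_of_fix {p : ℕ} {P : Sylow p G} {x g : G} (hx : x ∈ P) (h : g • P = P) :
    g * x * g⁻¹ ∈ P := h ▸ conj_mem_smul hx g

theorem mersenne_pow {n r k : ℕ} (hn : 2 ≤ n) (hr : r.Prime) (h : 2 ^ n - 1 = r ^ k) : r = 2 ^ n - 1 := by
  obtain ⟨m, rfl⟩ := Nat.exists_eq_add_of_le hn
  have h0 : 0 < 2 ^ m := by positivity
  have h0' : 0 < 2 ^ (2 + m) := by positivity
  have h1 : r ^ k + 1 = 2 ^ (2 + m) := by omega
  have h4 : r ^ k % 4 = 3 := by rw [pow_add] at h1; omega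
  have ho : r % 2 = 1 := by
    rcases hr.eq_two_or_odd with rfl | e
    · rcases k with _ | k
      · simp at h4
      · rw [pow_succ] at h4; omega
    · exact e
  rcases Nat.even_or_odd' k with ⟨j, rfl | rfl⟩
  · have : r ^ 2 % 4 = 1 := by
      rcases (by omega : r % 4 = 1 ∨ r % 4 = 3) with e | e <;> simp [Nat.pow_mod, e]
    rw [pow_mul, Nat.pow_mod, this] at h4
    simp at h4
  · have h2 : r + 1 ∣ 2 ^ (2 + m) := by
      have := Odd.nat_add_dvd_pow_add_pow r 1 (n := 2 * j + 1) ⟨j, rfl⟩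
      rwa [one_pow, h1] at this
    obtain ⟨i, hi, e⟩ := (Nat.dvd_prime_pow Nat.prime_two).1 h2
    rcases hi.eq_or_lt with rfl | hi
    · omega
    exfalso
    obtain ⟨s, rfl⟩ : ∃ s, r = 2 * s + 1 := ⟨r / 2, by omega⟩
    have h3 : (2 * s + 1) ^ 2 ≡ 1 [MOD 2 ^ (i + 1)] := by
      refine ((Nat.modEq_iff_dvd' (Nat.one_le_pow _ _ (by omega))).2 ⟨s, ?_⟩).symm
      rw [pow_succ 2 i, ← e]
      exact Nat.sub_eq_of_eq_add (by ring)
    have h5 := ((h3.pow j).mul_right (2 * s + 1)).add_right 1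
    rw [← pow_mul, ← pow_succ, h1, one_pow, one_mul, e] at h5
    have h6 := (Nat.modEq_zero_iff_dvd.2 (pow_dvd_pow 2 (show i + 1 ≤ 2 + m by omega))).symm.trans h5
    have h7 := Nat.le_of_dvd (by positivity) (Nat.modEq_zero_iff_dvd.1 h6.symm)
    rw [pow_succ] at h7
    have : 0 < 2 ^ i := by positivity
    omega

end Cfsg.Agent.L0.EP
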