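import Cfsg.Agent.L0.EP.C2
import Cfsg.Agent.H2.SzGen
import Cfsg.Agent.H2.SzTori2

/-! The trivial-intersection case: recognition of the Suzuki groups. -/

set_option autoImplicit false
set_option linter.unusedSectionVars false
set_option linter.unusedVariables false

namespace Cfsg.Agent.L0.EP

open Subgroup H3.BSW H2

variable {G : Type*} [Group G] {F : Type} [Field F]

theorem equiv_of_rel {H : Type*} [Group H] (R : G → H → Prop)
    (mul : ∀ a b c d, R a b → R c d → R (a * c) (b * d)) (ex1 : ∀ g, ∃ h, R g h) (ex2 : ∀ h, ∃ g, R g h)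
    (u1 : ∀ g h h', R g h → R g h' → h = h') (u2 : ∀ g g' h, R g h → R g' h → g = g') : Nonempty (G ≃* H) := by
  choose f hf using ex1
  refine ⟨MulEquiv.ofBijective (MonoidHom.mk' f fun a b => u1 _ _ _ (hf _) (mul _ _ _ _ (hf a) (hf b)))
    ⟨fun a b (e : f a = f b) => u2 _ _ _ (hf a) (e ▸ hf b), fun h => ?_⟩⟩
  obtain ⟨g, hg⟩ := ex2 h
  exact ⟨g, u1 _ _ _ (hf g) hg⟩

theorem th_eq {m : ℕ} [SzF F m] (pr : (Nat.card F - 1).Prime) (h3 : Nat.card F - 1 ≠ 3) {θ : F ≃+* F}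
    (h : ∀ c, θ (θ c) = c ^ 2) (x : F) : θ x = Suz.th m x := by
  have := Suz.charP F m
  have := Suz.finite F m
  have := Fintype.ofFinite F
  have c : ∀ x, θ (Suz.th m x) = Suz.th m (θ x) := fun x => map_pow θ x _
  have tp : ∀ (x : F) (i : ℕ), Suz.th m (x ^ i) = Suz.th m x ^ i := fun x i => by
    simp only [Suz.th, ← pow_mul, mul_comm]
  have key : ∀ t : F, t ≠ 0 → t ≠ 1 → θ t = Suz.th m t → θ x = Suz.th m x := fun t t0 t1 e => by
    by_cases x0 : x = 0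
    · simp [x0]
    obtain ⟨i, rfl⟩ := gen_pow pr t0 t1 x0
    rw [map_pow, e, tp]
  obtain ⟨μ, m0, m1⟩ := Suz.exists_ne_zero_one F m
  obtain ⟨ν, hν⟩ := θ.surjective (Suz.th m μ)
  have e : Suz.th m ν = θ μ := θ.injective (by rw [c, hν, Suz.th_th, h])
  have n0 : ν ≠ 0 := fun e' => m0 (Suz.th_injective m (by rw [← hν, e']; simp))
  by_cases a : μ * ν = 1
  swap
  · exact key _ (mul_ne_zero m0 n0) a (by rw [map_mul, Suz.th_mul, hν, e, mul_comm])
  by_cases b : μ + ν = 0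
  · rw [← CharTwo.add_eq_zero.1 b] at hν
    exact key _ m0 m1 hν
  by_cases b' : μ + ν = 1
  swap
  · exact key _ b b' (by rw [map_add, Suz.th_add, hν, e, add_comm])
  have h1 : μ ^ 3 = 1 := by
    linear_combination (μ - 1) * (μ * b' - a) + (μ - 1) * (μ - 1 + 1 + μ * 0) * CharTwo.two_eq_zero (R := F)
  have h2 := FiniteField.pow_card_sub_one_eq_one μ m0
  rw [← Nat.card_eq_fintype_card] at h2
  have := pow_gcd_eq_one.2 ⟨h1, h2⟩
  rw [(Nat.coprime_primes Nat.prime_three pr).2 h3.symm, pow_one] at this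
  exact absurd this m1

theorem sz_card {m : ℕ} [SzF F m] (pr : (Nat.card F - 1).Prime) (h : EPPO (Sz F m)) : m = 1 ∨ m = 2 := by
  have := Suz.finite_Sz F m
  have m1 : 1 ≤ m := SzF.pos F
  have pn : (2 * m + 1).Prime := (Nat.prime_of_pow_sub_one_prime (by omega) (SzF.card (F := F) (m := m) ▸ pr)).2
  have := Fact.mk Nat.prime_five
  have e : Nat.card F ^ 2 = 4 * 16 ^ m := by
    rw [SzF.card (F := F) (m := m), ← pow_mul, show (2 * m + 1) * 2 = 2 + 4 * m by ring, pow_add, pow_mul]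
    norm_num
  have d5 : 5 ∣ Nat.card F ^ 2 + 1 := by
    have : 16 ^ m % 5 = 1 := by simp [Nat.pow_mod]
    omega
  obtain ⟨x, hx⟩ := exists_prime_orderOf_dvd_card' (G := Sz F m) 5 (Suz.card_Sz F m ▸ d5.mul_left _)
  have x1 : x ≠ 1 := fun e => by simp [e] at hx
  have D := Suz.der_of_orderOf_dvd x1 (hx ▸ d5)
  obtain ⟨k, hk⟩ := IsPGroup.iff_card.1 (isPGroup_of_pe (p := 5) (P := Cen x) fun y hy =>
    h.pe_of_comm Nat.prime_five (mem_Cen.1 hy).symm ⟨1, by rw [pow_one, ← hx, pow_orderOf_eq_one]⟩ x1)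
  have a1 := D.five_le
  have a2 := D.card_Cen_dvd
  have a3 := D.card_Cen
  rw [hk] at a1 a2 a3
  rcases k with _ | _ | k
  · omega
  · left
    by_contra m2
    obtain ⟨j, rfl⟩ : ∃ j, m = j + 2 := ⟨m - 2, by omega⟩
    have := Nat.pow_le_pow_right two_pos (show j ≤ 2 * j by omega)
    have := Nat.two_pow_pos j
    simp only [mul_add, pow_add] at a3
    omega
  · right
    have a4 : 25 ∣ 4 * 16 ^ m + 1 := e ▸ (Dvd.intro_left (5 ^ k) (by ring)).trans a2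
    have a5 : 16 ^ m % 25 = 16 ^ (m % 5) % 25 := by
      conv_lhs => rw [← Nat.div_add_mod m 5, pow_add, pow_mul, Nat.mul_mod, Nat.pow_mod]
      simp
    have a6 : m % 5 = 2 := by
      have := Nat.mod_lt m (show 0 < 5 by omega)
      interval_cases m % 5 <;> omega
    have := (Nat.prime_dvd_prime_iff_eq Nat.prime_five pn).1 (by omega)
    omega

variable [Finite G]

namespace ZS

variable {S : Sylow 2 G} {κ τ u a : G} {n : ℕ} (Z : ZS S κ τ u a n) (h : EPPO G) (ti : TI G)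
include Z h ti

theorem sz_iso {m : ℕ} [SzF F m] {θ : F ≃+* F} {μ : F} {e : F → F → G} (P : Pm S κ θ μ e)
    (ha : e 1 0 = a) (hu : e 0 1 = u) : Nonempty (G ≃* Sz F m) := by
  obtain ⟨h1, h2⟩ := Z.tits h ti P ha hu rfl
  have th := th_eq (m := m) P.pr P.not_three h1
  classical
  let β : Suz.Pt F m → Sylow 2 G := fun p =>
    if hp : p = Suz.inf F m then S else e ((Suz.pt_cases p).resolve_left hp).choose
      ((Suz.pt_cases p).resolve_left hp).choose_spec.choose • τ • S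
  have b0 : β (Suz.inf F m) = S := dif_pos rfl
  have b1 : ∀ x y, β (Suz.pt m x y) = e x y • τ • S := fun x y => by
    have := Suz.pt_inj ((Suz.pt_cases _).resolve_left (Suz.pt_ne_inf (m := m) x y)).choose_spec.choose_spec
    simp only [β, dif_neg (Suz.pt_ne_inf x y)]
    rw [← this.2, ← this.1]
  clear_value β
  have bi : Function.Injective β := fun p q hpq => by
    rcases Suz.pt_cases p with rfl | ⟨x, y, rfl⟩ <;> rcases Suz.pt_cases q with rfl | ⟨z, w, rfl⟩ <;>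
      simp only [b0, b1] at hpq
    · rfl
    · exact absurd hpq.symm (Z.pt_ne (P.mem _ _))
    · exact absurd hpq (Z.pt_ne (P.mem _ _))
    · exact Suz.pt_eq_iff.2 (P.inj _ _ _ _ (Z.pt_inj h ti (P.mem _ _) (P.mem _ _) hpq))
  let R : G → Sz F m → Prop := fun g g' => ∀ p, g • β p = β (g' • p)
  have mul : ∀ a b c d, R a b → R c d → R (a * c) (b * d) := fun a b c d r1 r2 p => by
    rw [mul_smul, mul_smul, r2, r1]
  have ru : ∀ x y, R (e x y) (Suz.u m x y) := fun x y p => by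
    rcases Suz.pt_cases p with rfl | ⟨z, w, rfl⟩
    · rw [Suz.u_smul_inf, b0, smul_eq_of_mem (P.mem _ _)]
    · rw [Suz.u_smul_pt, b1, b1, ← mul_smul, P.mul, th, add_comm x, add_comm y]
  have rw' : R τ (Suz.w F m) := fun p => by
    rcases Suz.pt_cases p with rfl | ⟨z, w, rfl⟩
    · rw [Suz.w_smul_inf, b0, b1, P.one, one_smul]
    by_cases e0 : z = 0 ∧ w = 0
    · rw [e0.1, e0.2, Suz.w_smul_zero, b0, b1, P.one, one_smul, Z.tt]
    · rw [Suz.w_smul_pt (Suz.ff_ne_zero m e0), b1, b1, Suz.ff, ← th, ← th]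
      exact h2 z w e0
  obtain ⟨k, hk⟩ := Suz.th_surjective m μ
  have k0 : k ≠ 0 := fun e => P.m0 (by simp [← hk, e])
  have rk : ∀ i : ℕ, R (κ ^ i) (Suz.h m (Units.mk0 k k0 ^ i)) := fun i p => by
    have e1 : Suz.th m (k ^ i) = μ ^ i := by rw [← th, map_pow, th, hk]
    rcases Suz.pt_cases p with rfl | ⟨z, w, rfl⟩
    · rw [Suz.h_smul_inf, b0, Z.pnorm]
    · rw [Suz.h_smul_pt, b1, b1, Units.val_pow_eq_pow_val, Units.val_mk0, e1, ← Suz.th_th m, e1, ← th, ← P.conjp,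
        mul_smul, mul_smul, inv_smul_eq_iff.2 (Z.pfix i).symm]
  have e1 : ∀ g, g • S = S → ∃ g', R g g' := fun g hg => by
    obtain ⟨s, s1, i, rfl⟩ := Z.stab g hg
    obtain ⟨x, y, rfl⟩ := P.surj s s1
    exact ⟨_, mul _ _ _ _ (ru x y) (rk i)⟩
  have e2 : ∀ g', g' • Suz.inf F m = Suz.inf F m → ∃ g, R g g' := fun g hg => by
    obtain ⟨x, y, l, rfl⟩ := Suz.fix_inf_iff.1 hg
    obtain ⟨i, hi⟩ := gen_pow P.pr k0 (fun e => P.m1 (by simp [← hk, e])) l.ne_zero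
    obtain rfl : Units.mk0 k k0 ^ i = l := Units.ext (by simpa using hi)
    exact ⟨_, mul _ _ _ _ (ru x y) (rk i)⟩
  refine equiv_of_rel R mul (fun g => ?_) (fun g => ?_) (fun g g1 g2 r1 r2 => ?_) fun g1 g2 g r1 r2 => ?_
  · by_cases hg : g • S = S
    · exact e1 g hg
    obtain ⟨s, s1, s2⟩ := Z.pts _ hg
    obtain ⟨x, y, rfl⟩ := P.surj s s1
    obtain ⟨g', r⟩ := e1 ((e x y * τ)⁻¹ * g) (by rw [mul_smul, ← s2, ← mul_smul (e x y), inv_smul_smul])
    exact ⟨_, mul_inv_cancel_left (e x y * τ) g ▸ mul _ _ _ _ (mul _ _ _ _ (ru x y) rw') r⟩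
  · rcases Suz.pt_cases (g • Suz.inf F m) with hg | ⟨x, y, hg⟩
    · exact e2 g hg
    obtain ⟨g', r⟩ := e2 ((Suz.u m x y * Suz.w F m)⁻¹ * g) (by
      rw [mul_smul, hg, inv_smul_eq_iff, mul_smul, Suz.w_smul_inf, Suz.u_smul_zero])
    exact ⟨_, mul_inv_cancel_left (Suz.u m x y * Suz.w F m) g ▸ mul _ _ _ _ (mul _ _ _ _ (ru x y) rw') r⟩
  · exact (inv_mul_eq_one.1 (Suz.eq_one_of_fix_all fun p => by
      rw [mul_smul, bi ((r2 p).symm.trans (r1 p)), inv_smul_smul]))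
  · have f : ∀ p, (g1⁻¹ * g2) • β p = β p := fun p => by rw [mul_smul, r2, ← r1, inv_smul_smul]
    exact inv_mul_eq_one.1 (no_three h ti (fun e => Suz.pt_ne_inf 0 0 (bi e).symm)
      (fun e => Suz.pt_ne_inf 0 1 (bi e).symm) (fun e => zero_ne_one (Suz.pt_inj (bi e)).2) Z.uiv
      (b0 ▸ Z.umem) (f _) (f _) (f _))

theorem sz_case [Fintype F] (hF : Nat.card F = 2 ^ n) {θ : F ≃+* F} {μ : F} {e : F → F → G} (P : Pm S κ θ μ e) :
    (Fintype.card F = 8 ∧ Nonempty (G ≃* ↥(Cfsg.Lie.Sz F 4))) ∨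
      (Fintype.card F = 32 ∧ Nonempty (G ≃* ↥(Cfsg.Lie.Sz F 8))) := by
  have := P.two
  have n3 := P.not_three
  rw [hF] at n3
  obtain ⟨m, rfl⟩ : Odd n := Nat.not_even_iff_odd.1 fun ⟨k, hk⟩ => n3 (by
    refine ((Nat.prime_dvd_prime_iff_eq Nat.prime_three Z.prime).1 ?_).symm
    have : 4 ^ k % 3 = 1 := by simp [Nat.pow_mod]
    rw [hk, ← two_mul, pow_mul, show 2 ^ 2 = 4 from rfl]
    omega)
  have : SzF F m := ⟨hF, by have := Z.two; omega⟩
  have h3 : ¬ 3 ∣ Nat.card G := by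
    have := Suz.not_three_dvd_card F m
    rw [Suz.card_Sz] at this
    rwa [Z.card h ti, P.card, ← hF, mul_comm]
  obtain ⟨α, β, ha⟩ := P.surj a Z.amem
  have sq : a * a = e 0 (θ α * α) := by rw [← ha, P.mul, CharTwo.add_self_eq_zero, CharTwo.add_self_eq_zero, zero_add]
  have hu := Z.sq_eq h ti h3 (by
    rw [show a ^ 4 = a * a * (a * a) by simp only [pow_succ, pow_zero, one_mul, mul_assoc], sq, P.mul]
    simp [CharTwo.add_self_eq_zero, P.one])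
  have a0 : α ≠ 0 := fun e' => Z.uiv.2 (by rw [← hu, sq, e', mul_zero, P.one])
  have a1 := mul_ne_zero a0 ((map_ne_zero θ).2 a0)
  have Q := P.scale a0
  have ha' : (fun a b => e (α * a) (α * θ α * b)) 1 (β / (α * θ α)) = a := by
    simp only [mul_one, mul_div_cancel₀ _ a1, ha]
  have hu' : (fun a b => e (α * a) (α * θ α * b)) 0 1 = u := by
    simp only [mul_one, zero_mul, ← hu, sq, mul_comm α]
  obtain ⟨f⟩ : Nonempty (G ≃* Sz F m) := by
    rcases Z.b01 h ti Q ha' hu' with b | b <;> rw [b] at ha'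
    · exact Z.sz_iso h ti Q ha' hu'
    · exact Z.sz_iso h ti Q.twist (by simpa using ha') (by simpa using hu')
  rw [← Nat.card_eq_fintype_card, hF]
  rcases sz_card P.pr (h.of_inj f.symm.toMonoidHom f.symm.injective) with rfl | rfl
  · exact Or.inl ⟨rfl, ⟨f.trans (Suz.equivLie F 1)⟩⟩
  · exact Or.inr ⟨rfl, ⟨f.trans (Suz.equivLie F 2)⟩⟩

end ZS

omit [Finite G] in
theorem pm_of_coord {S : Subgroup G} {κ : G} {θ : F ≃+* F} {μ : F} {π ψ : G → F} [CharP F 2]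
    (pr : (Nat.card F - 1).Prime) (th : θ ≠ RingEquiv.refl F) (m0 : μ ≠ 0) (m1 : μ ≠ 1)
    (hn : ∀ s ∈ S, κ * s * κ⁻¹ ∈ S) (hf : ∀ s ∈ S, Commute s κ → s = 1)
    (h1 : ∀ x ∈ S, ∀ y ∈ S, π (x * y) = π x + π y) (h2 : ∀ x ∈ S, ∀ y ∈ S, ψ (x * y) = ψ x + ψ y + θ (π x) * π y)
    (h3 : ∀ x ∈ S, π (κ * x * κ⁻¹) = μ * π x) (h4 : ∀ x ∈ S, ψ (κ * x * κ⁻¹) = μ * θ μ * ψ x)
    (h5 : ∀ x ∈ S, π x = 0 → ψ x = 0 → x = 1) (h6 : ∀ a b, ∃ x ∈ S, π x = a ∧ ψ x = b) :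
    ∃ e, Pm S κ θ μ e := by
  choose e e1 e2 e3 using h6
  have ext : ∀ x ∈ S, ∀ y ∈ S, π x = π y → ψ x = ψ y → x = y := fun x hx y hy a b => by
    have c1 := h1 _ hx _ (mul_mem (inv_mem hx) hy)
    have c2 := h2 _ hx _ (mul_mem (inv_mem hx) hy)
    rw [mul_inv_cancel_left, ← a, left_eq_add] at c1
    rw [mul_inv_cancel_left, ← b, c1, mul_zero, add_zero, left_eq_add] at c2
    exact inv_mul_eq_one.1 (h5 _ (mul_mem (inv_mem hx) hy) c1 c2)
  have cj : ∀ a b, κ * e a b * κ⁻¹ = e (μ * a) (μ * θ μ * b) := fun a b =>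
    ext _ (hn _ (e1 _ _)) _ (e1 _ _) (by rw [h3 _ (e1 _ _), e2, e2]) (by rw [h4 _ (e1 _ _), e3, e3])
  refine ⟨e, inferInstance, pr, th, m0, m1, fun hm => ?_, e1, fun a b c d => ext _ (mul_mem (e1 _ _) (e1 _ _)) _ (e1 _ _)
    (by rw [h1 _ (e1 _ _) _ (e1 _ _), e2, e2, e2]) (by rw [h2 _ (e1 _ _) _ (e1 _ _), e2, e2, e3, e3, e3]),
    fun a b c d h => ⟨by rw [← e2 a b, h, e2], by rw [← e3 a b, h, e3]⟩,
    fun s hs => ⟨_, _, ext _ (e1 _ _) _ hs (e2 _ _) (e3 _ _)⟩, cj⟩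
  have c1 := hf _ (e1 0 1) (comm_of_conj (by rw [cj, hm, mul_zero, mul_one])).symm
  have c2 := h2 1 S.one_mem 1 S.one_mem
  rw [mul_one, ← c1, e2, e3] at c2
  simp at c2

theorem ti_case [IsSimpleGroup G] (hG : ¬ IsMulCommutative G) (h : EPPO G) (ti : TI G) (he : Even (Nat.card G))
    (hig : ∀ (S : Sylow 2 G) (κ τ u a : G) (n : ℕ), ZS S κ τ u a n → (∀ x ∈ S, ∀ y ∈ S, x * y = y * x) ∨
      ((∀ x ∈ S, x ^ 4 = 1) ∧ Nat.card S = (2 ^ n) ^ 3) ∨ ∃ θ μ e, Pm (F := GaloisField 2 n) S κ θ μ e) :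
    (∃ (F : Type) (_ : Field F) (_ : Fintype F), Fintype.card F ∈ ({4, 7, 8, 17} : Finset ℕ) ∧
      Nonempty (G ≃* Matrix.ProjectiveSpecialLinearGroup (Fin 2) F)) ∨
    (∃ (F : Type) (_ : Field F) (_ : Fintype F),
      (Fintype.card F = 8 ∧ Nonempty (G ≃* ↥(Cfsg.Lie.Sz F 4))) ∨
        (Fintype.card F = 32 ∧ Nonempty (G ≃* ↥(Cfsg.Lie.Sz F 8)))) := by
  obtain ⟨S, κ, τ, u, a, n, Z⟩ := ti_zs hG h ti he
  rcases hig S κ τ u a n Z with e | ⟨e1, e2⟩ | ⟨θ, μ, e, P⟩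
  · exact Or.inl (abel_case hG h ti he S Z.not_cyc e)
  · exact (Z.not_cube h ti hG e2 e1).elim
  · have := Fintype.ofFinite (GaloisField 2 n)
    exact Or.inr ⟨_, _, this, Z.sz_case h ti (GaloisField.card 2 n (by have := Z.two; omega)) P⟩

end Cfsg.Agent.L0.EP
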