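import Cfsg.Agent.L0.EP.A0

/-! Trivial-intersection Sylow `2`-subgroups: the doubly transitive action. -/

set_option autoImplicit false

namespace Cfsg.Agent.L0.EP

open Subgroup H3.BSW

variable {G : Type*} [Group G]

/-- Sylow `2`-subgroups have trivial intersections -/
def TI (G : Type*) [Group G] : Prop := ∀ P Q : Sylow 2 G, ∀ x ∈ P, x ∈ Q → x ≠ 1 → P = Q

/-- elements of square one -/
def Om (P : Subgroup G) (h : ∀ t ∈ P, t * t = 1 → ∀ s ∈ P, Commute s t) : Subgroup G where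
  carrier := {t | t ∈ P ∧ t * t = 1}
  one_mem' := ⟨one_mem _, one_mul _⟩
  mul_mem' := fun {a b} ha hb => ⟨mul_mem ha.1 hb.1, by
    rw [← pow_two, (h b hb.1 hb.2 a ha.1).mul_pow, pow_two, pow_two, ha.2, hb.2, one_mul]⟩
  inv_mem' := fun {a} ha => ⟨inv_mem ha.1, by rw [← mul_inv_rev, ha.2, inv_one]⟩

/-- the structure of the doubly transitive groups -/
structure ZS (S : Sylow 2 G) (κ τ u a : G) (n : ℕ) : Prop where
  two : 2 ≤ n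
  prime : (2 ^ n - 1).Prime
  ord : orderOf κ = 2 ^ n - 1
  norm : κ • S = S
  iv : Iv τ
  inv : τ * κ * τ⁻¹ = κ⁻¹
  ne : τ • S ≠ S
  cent : ∀ t ∈ S, t * t = 1 → ∀ s ∈ S, Commute s t
  trans : ∀ t ∈ S, Iv t → ∀ t' ∈ S, Iv t' → ∃ i : ℕ, κ ^ i * t * (κ ^ i)⁻¹ = t'
  cardO : Nat.card {t : G // t ∈ S ∧ t * t = 1} = 2 ^ n
  stab : ∀ g : G, g • S = S → ∃ s ∈ S, ∃ i : ℕ, g = s * κ ^ i
  pts : ∀ P : Sylow 2 G, P ≠ S → ∃ s ∈ S, s • τ • S = P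
  umem : u ∈ S
  uiv : Iv u
  amem : a ∈ S
  str : τ * u * τ⁻¹ = a * τ * a⁻¹

section

variable (h : EPPO G) (ti : TI G)
include h ti

theorem cent_mem {P : Sylow 2 G} {t c : G} (ht : t ∈ P) (h1 : t ≠ 1) (hc : Commute c t) : c ∈ P := by
  refine mem_of_smul_eq (h.pe_of_comm Nat.prime_two hc.symm (pe_of_mem P.isPGroup' ht) h1)
    (ti _ _ t ?_ ht h1)
  have := conj_mem_smul ht c
  rwa [hc.eq, mul_inv_cancel_right] at this

theorem two_odd {P Q : Sylow 2 G} (e : P ≠ Q) {g : G} (hP : g • P = P) (hQ : g • Q = Q) :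
    Odd (orderOf g) := by
  rcases h.pe_or_odd g with h1 | h1
  · by_cases h2 : g = 1
    · simp [h2]
    · exact absurd (ti _ _ g (mem_of_smul_eq h1 hP) (mem_of_smul_eq h1 hQ) h2) e
  · exact h1

theorem two_eq {P Q : Sylow 2 G} (e : P ≠ Q) {g g' t : G} (hP : g • P = P) (hQ : g • Q = Q)
    (hP' : g' • P = P) (hQ' : g' • Q = Q) (ht : Iv t) (hg : g * t * g⁻¹ = g' * t * g'⁻¹) : g = g' := by
  have := h.eq_one_of_comm (comm_of_conj_eq hg).symm (pe_of_sq ht.1) ht.2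
    (two_odd h ti e (by rw [mul_smul, hP', inv_smul_eq_iff, hP]) (by rw [mul_smul, hQ', inv_smul_eq_iff, hQ]))
  exact inv_mul_eq_one.1 this

variable [Finite G]

theorem odd_mul' {P Q : Sylow 2 G} (e : P ≠ Q) {t u : G} (ht : Iv t) (hu : Iv u) (h1 : t ∈ P)
    (h2 : u ∈ Q) : Odd (orderOf (t * u)) := by
  by_contra ho
  obtain ⟨z, hz, z1, z2⟩ := exists_iv_comm ht hu ho
  exact e (ti _ _ z (cent_mem h ti h1 ht.2 z1.symm) (cent_mem h ti h2 hu.2 z2.symm) hz.2)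

theorem exists_sw {P Q : Sylow 2 G} (e : P ≠ Q) {t u : G} (ht : Iv t) (hu : Iv u) (h1 : t ∈ P)
    (h2 : u ∈ Q) : ∃ w, Iv w ∧ w * t * w⁻¹ = u ∧ w • P = Q ∧ w • Q = P := by
  obtain ⟨w, w1, w2⟩ := swap_of_odd ht hu (odd_mul' h ti e ht hu h1 h2)
  have w3 : w • P = Q := ti _ _ u (w2 ▸ conj_mem_smul h1 w) h2 hu.2
  exact ⟨w, ⟨w1, fun e' => e (by rw [← w3, e', one_smul])⟩, w2, w3,
    by rw [← w3, ← mul_smul, w1, one_smul]⟩

omit h ti in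
theorem exists_iv_mem {P : Sylow 2 G} {t : G} (ht : Iv t) (h1 : t ∈ P) (Q : Sylow 2 G) :
    ∃ u ∈ Q, Iv u := by
  obtain ⟨g, rfl⟩ := MulAction.exists_smul_eq G P Q
  exact ⟨_, conj_mem_smul h1 g, ht.conj g⟩

theorem two_trans {P Q : Sylow 2 G} (e : P ≠ Q) {t t' : G} (ht : Iv t) (ht' : Iv t') (h1 : t ∈ P)
    (h2 : t' ∈ P) : ∃ g, g • P = P ∧ g • Q = Q ∧ g * t * g⁻¹ = t' := by
  obtain ⟨u, u1, u2⟩ := exists_iv_mem ht h1 Q
  obtain ⟨w, -, w2, w3, w4⟩ := exists_sw h ti e ht u2 h1 u1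
  obtain ⟨v, -, v2, v3, v4⟩ := exists_sw h ti e.symm u2 ht' u1 h2
  exact ⟨v * w, by rw [mul_smul, w3, v3], by rw [mul_smul, w4, v4], by rw [← v2, ← w2]; group⟩

theorem sw_inv {P Q : Sylow 2 G} (e : P ≠ Q) {w g t : G} (ht : Iv t) (h1 : t ∈ P) (hw : Iv w)
    (w3 : w • P = Q) (hP : g • P = P) (hQ : g • Q = Q) : w * g * w⁻¹ = g⁻¹ := by
  have w4 : w • Q = P := by rw [← w3, ← mul_smul, hw.1, one_smul]
  obtain ⟨v, v1, v2, v3, v4⟩ := exists_sw h ti e.symm (ht.conj w) (ht.conj g)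
    (w3 ▸ conj_mem_smul h1 w) (conj_mem_of_fix h1 hP)
  have : g = v * w := two_eq h ti e hP hQ (by rw [mul_smul, w3, v3]) (by rw [mul_smul, w4, v4]) ht
    (by rw [← v2]; group)
  rw [this, mul_inv_rev, hw.inv, v1.inv, mul_assoc, mul_assoc, hw.1, mul_one]

theorem two_comm {P Q : Sylow 2 G} (e : P ≠ Q) {g g' t : G} (ht : Iv t) (h1 : t ∈ P)
    (hP : g • P = P) (hQ : g • Q = Q) (hP' : g' • P = P) (hQ' : g' • Q = Q) : Commute g g' := by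
  obtain ⟨u, u1, u2⟩ := exists_iv_mem ht h1 Q
  obtain ⟨w, w1, -, w3, -⟩ := exists_sw h ti e ht u2 h1 u1
  have a1 := sw_inv h ti e ht h1 w1 w3 hP hQ
  have a2 := sw_inv h ti e ht h1 w1 w3 hP' hQ'
  have a3 := sw_inv h ti e ht h1 w1 w3 (g := g * g') (by rw [mul_smul, hP', hP])
    (by rw [mul_smul, hQ', hQ])
  rw [← conj_mul, a1, a2, ← mul_inv_rev, inv_inj] at a3
  exact a3.symm

theorem stab_two {P Q : Sylow 2 G} (e : P ≠ Q) {g t : G} (ht : Iv t) (h1 : t ∈ P) (hP : g • P = P) :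
    ∃ k, k • P = P ∧ k • Q = Q ∧ k⁻¹ * g ∈ P := by
  obtain ⟨k, k1, k2, k3⟩ := two_trans h ti e ht (ht.conj g) h1 (conj_mem_of_fix h1 hP)
  exact ⟨k, k1, k2, cent_mem h ti h1 ht.2 (comm_of_conj_eq k3)⟩

theorem no_three {P Q R : Sylow 2 G} (e1 : P ≠ Q) (e2 : P ≠ R) (e3 : Q ≠ R) {k t : G} (ht : Iv t)
    (h1 : t ∈ P) (hP : k • P = P) (hQ : k • Q = Q) (hR : k • R = R) : k = 1 := by
  obtain ⟨u, u1, u2⟩ := exists_iv_mem ht h1 Q
  obtain ⟨v, v1, v2⟩ := exists_iv_mem ht h1 R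
  obtain ⟨a, a1, -, a3, a4⟩ := exists_sw h ti e1 ht u2 h1 u1
  obtain ⟨b, b1, -, b3, b4⟩ := exists_sw h ti e2 ht v2 h1 v1
  obtain ⟨c, c1, -, c3, c4⟩ := exists_sw h ti e3 u2 v2 u1 v1
  have i1 := sw_inv h ti e1 ht h1 a1 a3 hP hQ
  have i2 := sw_inv h ti e2 ht h1 b1 b3 hP hR
  have i3 := sw_inv h ti e3 u2 u1 c1 c3 hQ hR
  obtain ⟨l, l1, l2, l3⟩ := stab_two h ti e1.symm (g := c * b * a) u2 u1
    (by rw [mul_smul, mul_smul, a4, b3, c4])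
  have i4 : c * b * a * k * (c * b * a)⁻¹ = k⁻¹ := by
    calc _ = c * (b * (a * k * a⁻¹) * b⁻¹) * c⁻¹ := by group
      _ = _ := by rw [i1, conj_inv.symm, i2, inv_inv, i3]
  have i5 := (two_comm h ti e1 ht h1 l2 l1 hP hQ).inv_inv.eq
  have i6 : (k * k)⁻¹ ∈ Q := by
    have := mul_mem l3 (conj_mem_of_fix (inv_mem l3) hQ)
    convert this using 1
    calc (k * k)⁻¹ = l⁻¹ * k⁻¹ * l * k⁻¹ := by rw [i5]; group
      _ = _ := by rw [← i4]; group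
  have ho := two_odd h ti e1 hP hQ
  have := (pe_of_mem Q.isPGroup' (inv_mem_iff.1 i6)).eq_one (by rw [← pow_two]; exact odd_pow ho 2)
  exact eq_one_of_odd_sq ho this

theorem exists_ZS (S : Sylow 2 G) {Q : Sylow 2 G} (e : S ≠ Q) {t t' : G} (ht : Iv t) (ht' : Iv t')
    (h1 : t ∈ S) (h2 : t' ∈ S) (hne : t ≠ t') : ∃ κ τ u a n, ZS S κ τ u a n := by
  obtain ⟨z, z1, z2, z3⟩ := exists_central_iv S.isPGroup' (ne_bot_iff_exists_ne_one.2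
    ⟨⟨t, h1⟩, fun e => ht.2 (congrArg Subtype.val e)⟩)
  have cent : ∀ t ∈ S, t * t = 1 → ∀ s ∈ S, Commute s t := fun x hx x1 s hs => by
    by_cases x2 : x = 1
    · exact x2 ▸ Commute.one_right s
    obtain ⟨g, g1, -, rfl⟩ := two_trans h ti e z2 ⟨x1, x2⟩ z1 hx
    have := (z3 _ (conj_mem_of_fix hs (g := g⁻¹) (inv_smul_eq_iff.2 g1.symm))).conj g
    simpa [mul_assoc] using this
  let H : Subgroup G := MulAction.stabilizer G S ⊓ MulAction.stabilizer G Q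
  obtain ⟨n, hn⟩ := IsPGroup.iff_card.1 (S.isPGroup'.to_le (H := Om S cent) fun x hx => hx.1)
  have hc : Nat.card H + 1 = 2 ^ n := by
    let f : Option H → Om (S : Subgroup G) cent := fun g => g.elim 1 fun g =>
      ⟨g * t * (g : G)⁻¹, conj_mem_of_fix h1 g.2.1, (ht.conj g).1⟩
    rw [← hn, ← Finite.card_option]
    refine Nat.card_eq_of_bijective f ⟨?_, fun x => ?_⟩
    · rintro (_ | a) (_ | b) e'
      · rfl
      · exact absurd (congrArg Subtype.val e').symm (ht.conj b).2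
      · exact absurd (congrArg Subtype.val e') (ht.conj a).2
      · exact congrArg some (Subtype.ext
          (two_eq h ti e a.2.1 a.2.2 b.2.1 b.2.2 ht (congrArg Subtype.val e')))
    · by_cases x2 : (x : G) = 1
      · exact ⟨none, Subtype.ext x2.symm⟩
      obtain ⟨g, g1, g2, g3⟩ := two_trans h ti e ht ⟨x.2.2, x2⟩ h1 x.2.1
      exact ⟨some ⟨g, g1, g2⟩, Subtype.ext g3⟩
  obtain ⟨k, k1, k2, k3⟩ := two_trans h ti e ht ht' h1 h2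
  have k4 : k ≠ 1 := fun e' => hne (by rw [← k3, e']; simp)
  obtain ⟨r, hr, k5⟩ := h.exists_pe k
  have := Fact.mk hr
  obtain ⟨j, hj⟩ := IsPGroup.iff_card.1 (isPGroup_of_pe (P := H) fun x hx =>
    h.pe_of_comm hr (two_comm h ti e ht h1 k1 k2 hx.1 hx.2) k5 k4)
  have hn2 : 2 ≤ n := by
    have : 1 < Nat.card H := (one_lt_card_iff_ne_bot H).2 (ne_bot_iff_exists_ne_one.2
      ⟨⟨k, k1, k2⟩, fun e => k4 (congrArg Subtype.val e)⟩)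
    by_contra hlt
    have := Nat.pow_le_pow_right (show 0 < 2 by omega) (show n ≤ 1 by omega)
    omega
  have hr2 : r = 2 ^ n - 1 := mersenne_pow hn2 hr (k := j) (by omega)
  have hH : Nat.card H = r := by omega
  have ord : orderOf k = r := by
    have := orderOf_dvd_natCard (⟨k, k1, k2⟩ : H)
    rw [hH, ← Subgroup.orderOf_coe] at this
    exact ((Nat.dvd_prime hr).1 this).resolve_left fun e => k4 (orderOf_eq_one_iff.1 e)
  have gen : ∀ g : G, g • S = S → g • Q = Q → ∃ i : ℕ, k ^ i = g := fun g g1 g2 => by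
    have : zpowers k = H := eq_of_le_of_card_ge (zpowers_le.2 ⟨k1, k2⟩)
      (by rw [Nat.card_zpowers, ord, hH])
    have h3 : g ∈ zpowers k := this ▸ (⟨g1, g2⟩ : g ∈ H)
    exact mem_powers_iff_mem_zpowers.2 h3
  obtain ⟨v, v1, v2⟩ := exists_iv_mem ht h1 Q
  obtain ⟨τ, τ1, -, τ3, τ4⟩ := exists_sw h ti e ht v2 h1 v1
  have stab : ∀ g : G, g • S = S → ∃ s ∈ S, ∃ i : ℕ, g = s * k ^ i := fun g hg => by
    obtain ⟨l, l1, l2, l3⟩ := stab_two h ti e ht h1 hg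
    obtain ⟨i, rfl⟩ := gen l l1 l2
    exact ⟨_, conj_mem_of_fix l3 l1, i, by group⟩
  have pts : ∀ P : Sylow 2 G, P ≠ S → ∃ s ∈ S, s • Q = P := fun P hP => by
    obtain ⟨l, l1, l2, l3⟩ := two_trans h ti hP.symm ht ht' h1 h2
    have l4 : l ≠ 1 := fun e' => hne (by rw [← l3, e']; simp)
    obtain ⟨m, m1, m2, m3⟩ := stab_two h ti e ht h1 l1
    have m4 : m ≠ 1 := by
      rintro rfl
      exact l4 ((pe_of_mem S.isPGroup' (by rwa [inv_one, one_mul] at m3)).eq_one (two_odd h ti hP.symm l1 l2))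
    obtain ⟨x, x1, x2⟩ := lang (D := S) (c := m) (fun x hx => by
      have := conj_mem_of_fix hx (g := m⁻¹) (inv_smul_eq_iff.2 m1.symm)
      rwa [inv_inv] at this)
      (fun x hx hc => h.fpf hc (pe_of_mem S.isPGroup' hx) (two_odd h ti e m1 m2) m4) m3
    refine ⟨x, x1, ?_⟩
    by_contra hc
    refine m4 (no_three h ti e (R := x⁻¹ • P) ?_ ?_ ht h1 m1 m2 ?_)
    · rw [Ne, eq_inv_smul_iff, smul_eq_of_mem x1]; exact hP.symm
    · rwa [Ne, eq_inv_smul_iff]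
    · rw [← mul_smul, show m * x⁻¹ = x⁻¹ * l by rw [← mul_inv_cancel_left m l, x2]; group,
        mul_smul, l2]
  have hv := ht.conj τ
  have hvQ : τ * t * τ⁻¹ ∈ Q := τ3 ▸ conj_mem_smul h1 τ
  obtain ⟨f, f1, f2⟩ := pts ((τ * t * τ⁻¹) • S) fun e' =>
    e (ti _ _ _ (mem_of_smul_eq (pe_of_sq hv.1) e') hvQ hv.2)
  have w1 : (f⁻¹ * (τ * t * τ⁻¹) * f⁻¹⁻¹) • S = Q := by
    rw [mul_smul, mul_smul, inv_inv, smul_eq_of_mem f1, ← f2, inv_smul_smul]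
  have w2 := hv.conj f⁻¹
  have w3 : (f⁻¹ * (τ * t * τ⁻¹) * f⁻¹⁻¹) • Q = S := by rw [← w1, ← mul_smul, w2.1, one_smul]
  have m1 : (f⁻¹ * (τ * t * τ⁻¹) * f⁻¹⁻¹ * τ) • S = S := by rw [mul_smul, τ3, w3]
  have m2 : (f⁻¹ * (τ * t * τ⁻¹) * f⁻¹⁻¹ * τ) • Q = Q := by rw [mul_smul, τ4, w1]
  obtain ⟨i, hi⟩ := exists_sqrt (two_odd h ti e m1 m2)
  have l1 : (f⁻¹ * (τ * t * τ⁻¹) * f⁻¹⁻¹ * τ) ^ i ∈ H := pow_mem (show _ ∈ H from ⟨m1, m2⟩) i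
  generalize (f⁻¹ * (τ * t * τ⁻¹) * f⁻¹⁻¹ * τ) ^ i = l at hi l1
  have l2 := sw_inv h ti e ht h1 τ1 τ3 l1.1 l1.2
  refine ⟨k, τ, l * t * l⁻¹, l⁻¹ * f * l⁻¹⁻¹, n, hn2, hr2 ▸ hr, hr2 ▸ ord, k1, τ1,
    sw_inv h ti e ht h1 τ1 τ3 k1 k2, τ3 ▸ e.symm, cent, fun x x1 x2 y y1 y2 => ?_, hn, stab,
    τ3 ▸ pts, conj_mem_of_fix h1 l1.1, ht.conj l, conj_mem_of_fix f1 (inv_mem l1).1, ?_⟩
  · obtain ⟨g, g1, g2, g3⟩ := two_trans h ti e x2 y2 x1 y1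
    obtain ⟨i, rfl⟩ := gen g g1 g2
    exact ⟨i, g3⟩
  · calc τ * (l * t * l⁻¹) * τ⁻¹ = (τ * l * τ⁻¹) * (τ * t * τ⁻¹) * (τ * l * τ⁻¹)⁻¹ := by group
      _ = l⁻¹ * f * (f⁻¹ * (τ * t * τ⁻¹) * f⁻¹⁻¹ * τ) * τ⁻¹ * f⁻¹ * l := by rw [l2]; group
      _ = l⁻¹ * f * l * τ⁻¹ * (τ * l * τ⁻¹) * f⁻¹ * l := by rw [← hi]; group
      _ = _ := by rw [l2, τ1.inv]; group

end

end Cfsg.Agent.L0.EP
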