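import Cfsg.Agent.L0.EP.A1
import Cfsg.Agent.H3.PrimeGraph

/-! `2`-local subgroups: basic facts. -/

set_option autoImplicit false
set_option linter.unusedSectionVars false
set_option linter.unusedVariables false

namespace Cfsg.Agent.L0.EP

open Subgroup H3.BSW H2

variable {X : Type*} [Group X]

theorem nconj {H : Subgroup X} {g x : X} (hg : g ∈ normalizer (H : Set X)) (hx : x ∈ H) :
    g * x * g⁻¹ ∈ H := (mem_normalizer_iff.1 hg x).1 hx

theorem nconj' {H : Subgroup X} {g x : X} (hg : g ∈ normalizer (H : Set X)) (hx : x ∈ H) :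
    g⁻¹ * x * g ∈ H := by simpa using nconj (inv_mem hg) hx

theorem mem_norm [Finite X] {H : Subgroup X} {g : X} (h : ∀ x ∈ H, g * x * g⁻¹ ∈ H) :
    g ∈ normalizer (H : Set X) := mem_normalizer_fintype h

theorem z1_sq {D : Subgroup X} {v : X} (hv : v ∈ Z1 2 D) : v * v = 1 := by
  simpa [pow_two] using hv.2.1

theorem z1_comm {D : Subgroup X} {v x : X} (hv : v ∈ Z1 2 D) (hx : x ∈ D) : Commute v x :=
  hv.2.2 x hx

theorem mem_z1 {D : Subgroup X} {v : X} (h1 : v ∈ D) (h2 : v * v = 1) (h3 : ∀ x ∈ D, Commute v x) :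
    v ∈ Z1 2 D := ⟨h1, by rwa [pow_two], h3⟩

theorem z1_conj {D : Subgroup X} {v g : X} (hg : g ∈ normalizer (D : Set X)) (hv : v ∈ Z1 2 D) :
    g * v * g⁻¹ ∈ Z1 2 D := nconj (normalizer_le_Z1 D hg) hv

theorem exists_step [Finite X] {P N Z : Subgroup X} (hP : IsPGroup 2 P) (hN : N ≤ P)
    (hn : ∀ t ∈ P, ∀ v ∈ N, t * v * t⁻¹ ∈ N) {v : X} (hv : v ∈ N) (hZ : v ∉ Z) :
    ∃ v ∈ N, v ∉ Z ∧ ∀ t ∈ P, t * v * t⁻¹ * v⁻¹ ∈ Z := by
  obtain ⟨n, e⟩ := hP.isNilpotent.nilpotent'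
  have : (⟨v, hN hv⟩ : P) ∈ Subgroup.upperCentralSeries P n := e ▸ mem_top _
  clear e
  induction n generalizing v with
  | zero =>
    have e : (⟨v, hN hv⟩ : P) = 1 := mem_bot.1 this
    exact absurd (by rw [show v = 1 from congrArg Subtype.val e]; exact one_mem _) hZ
  | succ n ih =>
    by_contra hc
    push Not at hc
    obtain ⟨t, ht, h1⟩ := hc v hv hZ
    obtain ⟨w, w1, w2, w3⟩ := ih (mul_mem (hn t ht v hv) (inv_mem hv)) h1 (by
      have := inv_mem (Subgroup.mem_upperCentralSeries_succ_iff.1 this ⟨t, ht⟩)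
      rwa [commutatorElement_inv] at this)
    obtain ⟨s, s1, s2⟩ := hc w w1 w2
    exact s2 (w3 s s1)

theorem EPPO.order_dvd [Finite X] (h : EPPO X) {Z : Subgroup X} (hZ : IsPGroup 2 Z) {k : X}
    (ho : Odd (orderOf k)) (hn : ∀ z ∈ Z, k * z * k⁻¹ ∈ Z) : orderOf k ∣ Nat.card Z - 1 := by
  by_contra e
  obtain ⟨x, ⟨i, rfl⟩, x1, y, y1, y2, y3⟩ := H3.exists_commute_of_not_dvd (R := zpowers k) (S := Z)
    (zpowers_le.2 (mem_norm hn)) (by rwa [Nat.card_zpowers])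
  exact y2 (h.fpf y3.symm (pe_of_mem hZ y1) (ho.of_dvd_nat (orderOf_dvd_of_mem_zpowers ⟨i, rfl⟩)) x1)

theorem EPPO.reg_trans [Finite X] (h : EPPO X) {Z : Subgroup X} (hZ : IsPGroup 2 Z) {k : X}
    (ho : Odd (orderOf k)) (hn : ∀ z ∈ Z, k * z * k⁻¹ ∈ Z) (hc : Nat.card Z = orderOf k + 1)
    {z z' : X} (h1 : z ∈ Z) (h2 : z ≠ 1) (h3 : z' ∈ Z) (h4 : z' ≠ 1) :
    ∃ i : ℕ, k ^ i * z * (k ^ i)⁻¹ = z' := by
  let f : Option (zpowers k) → Z := fun g => g.elim 1 fun g =>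
    ⟨g * z * (g : X)⁻¹, nconj (zpowers_le.2 (mem_norm hn) g.2) h1⟩
  have ne : ∀ g : X, g * z * g⁻¹ ≠ 1 := fun g e => h2 (by simpa using e)
  have hi : Function.Injective f := by
    rintro (_ | a) (_ | b) e'
    · rfl
    · exact absurd (congrArg Subtype.val e').symm (ne b)
    · exact absurd (congrArg Subtype.val e') (ne a)
    · refine congrArg some (Subtype.ext (inv_mul_eq_one.1 (h.eq_one_of_comm
        (comm_of_conj_eq (congrArg Subtype.val e')).symm (pe_of_mem hZ h1) h2 ?_)))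
      exact ho.of_dvd_nat (orderOf_dvd_of_mem_zpowers (mul_mem (inv_mem a.2) b.2))
  obtain ⟨_ | g, e⟩ := (hi.bijective_of_nat_card_le (by
    rw [Finite.card_option, Nat.card_zpowers, hc])).2 ⟨z', h3⟩
  · exact absurd (congrArg Subtype.val e).symm h4
  · obtain ⟨i, hi⟩ := mem_powers_iff_mem_zpowers.2 g.2
    exact ⟨i, by rw [show k ^ i = g from hi]; exact congrArg Subtype.val e⟩

/-- `D = O₂(N(D))`, with `N(D)` not `2`-closed, and `T` a Sylow subgroup of it -/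
structure Loc (D T : Subgroup X) : Prop where
  ne : D ≠ ⊥
  pg : IsPGroup 2 D
  max : ∀ E : Subgroup X, IsPGroup 2 E → E ≤ normalizer (D : Set X) →
    normalizer (D : Set X) ≤ normalizer (E : Set X) → E ≤ D
  syl : SylIn 2 T (normalizer (D : Set X))
  ncl : ∃ T', SylIn 2 T' (normalizer (D : Set X)) ∧ T' ≠ T

theorem le_sylIn {D T Y : Subgroup X} (hD : IsPGroup 2 D) (h1 : D ≤ Y) (h2 : Y ≤ normalizer (D : Set X))
    (hT : SylIn 2 T Y) : D ≤ T :=
  hT.2.2 (T ⊔ D) (sup_le hT.1 h1) (hT.2.1.to_sup_of_normal_right' hD (hT.1.trans h2)) le_sup_left ▸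
    le_sup_right

/-- the quotient of the normalizer -/
abbrev Qt (D : Subgroup X) := normalizer (D : Set X) ⧸ D.subgroupOf (normalizer (D : Set X))

/-- the projection -/
abbrev qt (D : Subgroup X) : normalizer (D : Set X) →* Qt D := QuotientGroup.mk' _

theorem qt_surj (D : Subgroup X) : Function.Surjective (qt D) := QuotientGroup.mk'_surjective _

theorem qt_one {D : Subgroup X} {y : normalizer (D : Set X)} : qt D y = 1 ↔ (y : X) ∈ D :=
  QuotientGroup.eq_one_iff y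

/-- the image of a Sylow subgroup -/
noncomputable def bar [Finite X] {D T : Subgroup X} (hT : SylIn 2 T (normalizer (D : Set X))) :
    Sylow 2 (Qt D) := hT.toSylow.mapSurjective (qt_surj D)

theorem mem_bar [Finite X] {D T : Subgroup X} (hD : IsPGroup 2 D) (hT : SylIn 2 T (normalizer (D : Set X)))
    {y : normalizer (D : Set X)} : qt D y ∈ bar hT ↔ (y : X) ∈ T := by
  refine ⟨?_, fun h => ⟨y, h, rfl⟩⟩
  rintro ⟨x, hx, e⟩
  have : ((x⁻¹ * y : normalizer (D : Set X)) : X) ∈ D := qt_one.1 (by rw [map_mul, map_inv, e, inv_mul_cancel])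
  simpa using T.mul_mem (show (x : X) ∈ T from hx) (le_sylIn hD le_normalizer le_rfl hT this)

theorem bar_ne [Finite X] {D T T' : Subgroup X} (hD : IsPGroup 2 D)
    (hT : SylIn 2 T (normalizer (D : Set X))) (hT' : SylIn 2 T' (normalizer (D : Set X))) (h : T' ≠ T) :
    bar hT ≠ bar hT' := fun e => h <| by
  ext x
  exact ⟨fun hx => (mem_bar hD hT (y := ⟨x, hT'.1 hx⟩)).1 (e ▸ (mem_bar hD hT').2 hx),
    fun hx => (mem_bar hD hT' (y := ⟨x, hT.1 hx⟩)).1 (e ▸ (mem_bar hD hT).2 hx)⟩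

theorem card_Qt_lt [Finite X] {D : Subgroup X} (h : D ≠ ⊥) : Nat.card (Qt D) < Nat.card X := by
  refine (card_quot_lt _ fun e => h ?_).trans_le (card_le_card_group _)
  rw [eq_bot_iff]
  intro x hx
  have : (⟨x, le_normalizer hx⟩ : normalizer (D : Set X)) ∈ D.subgroupOf (normalizer (D : Set X)) := hx
  rw [e] at this
  exact congrArg Subtype.val (mem_bot.1 this)

theorem EPPO.qt (h : EPPO X) (D : Subgroup X) : EPPO (Qt D) := (h.sub _).of_surj _ (qt_surj D)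

theorem PE.map {H : Type*} [Group H] {p : ℕ} {x : X} (h : PE p x) (f : X →* H) : PE p (f x) := by
  obtain ⟨k, hk⟩ := h
  exact ⟨k, by rw [← map_pow, hk, map_one]⟩

theorem EPPO.odd_lift (h : EPPO X) {D : Subgroup X} {y : normalizer (D : Set X)}
    (ho : Odd (orderOf (EP.qt D y))) (h1 : EP.qt D y ≠ 1) : Odd (orderOf (y : X)) := by
  rw [Subgroup.orderOf_coe]
  exact ((h.sub _).pe_or_odd y).resolve_left fun e => h1 ((e.map _).eq_one ho)

theorem EPPO.lift_odd (h : EPPO X) {D : Subgroup X} (hD : IsPGroup 2 D) {q : Qt D}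
    (ho : Odd (orderOf q)) : ∃ y, EP.qt D y = q ∧ orderOf (y : X) = orderOf q := by
  by_cases h1 : q = 1
  · exact ⟨1, by rw [h1, map_one], by simp [h1]⟩
  obtain ⟨y, rfl⟩ := qt_surj D q
  refine ⟨y, rfl, Nat.dvd_antisymm (orderOf_dvd_of_pow_eq_one ?_) ?_⟩
  · refine (pe_of_mem hD ?_).eq_one (odd_pow (h.odd_lift ho h1) _)
    exact qt_one.1 (show EP.qt D (y ^ _) = 1 by rw [map_pow, pow_orderOf_eq_one])
  · rw [Subgroup.orderOf_coe]; exact orderOf_map_dvd _ _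

theorem EPPO.lift_inv [Finite X] (h : EPPO X) {D : Subgroup X} (hD : IsPGroup 2 D)
    {c : normalizer (D : Set X)} (ho : Odd (orderOf (c : X))) (h1 : (c : X) ≠ 1) {q : Qt D}
    (h2 : q * q = 1) (h3 : q * EP.qt D c * q⁻¹ = (EP.qt D c)⁻¹) :
    ∃ y, EP.qt D y = q ∧ (y : X) * y = 1 ∧ (y : X) * c * (y : X)⁻¹ = (c : X)⁻¹ := by
  obtain ⟨y, rfl⟩ := qt_surj D q
  have fp : ∀ x ∈ D, Commute x (c : X) → x = 1 := fun x hx e => h.fpf e (pe_of_mem hD hx) ho h1
  have : ((c * (y * c * y⁻¹) : normalizer (D : Set X)) : X) ∈ D :=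
    qt_one.1 (by simp only [map_mul, map_inv, h3, mul_inv_cancel])
  obtain ⟨x, x1, x2⟩ := lang (c := (c : X)⁻¹) (fun x hx => nconj' (inv_mem c.2) hx)
    (fun x hx e => fp x hx (by simpa using e.inv_right)) this
  have e1 : x⁻¹ * y * c * (x⁻¹ * y)⁻¹ = (c : X)⁻¹ := by
    calc _ = x⁻¹ * ((c : X)⁻¹ * (c * (y * c * (y : X)⁻¹))) * x := by group
      _ = _ := by rw [show (c : X)⁻¹ * (c * (y * c * (y : X)⁻¹)) = _ from x2]; group
  have e2 : EP.qt D ((⟨x, le_normalizer x1⟩ : normalizer (D : Set X))⁻¹ * y) = EP.qt D y := by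
    rw [map_mul, map_inv, qt_one.2 x1, inv_one, one_mul]
  refine ⟨_, e2, fp _ ((qt_one (y := _ * _)).1 (by rw [map_mul, e2, h2])) (comm_of_conj ?_), e1⟩
  calc _ = x⁻¹ * y * (x⁻¹ * y * c * (x⁻¹ * y)⁻¹) * (x⁻¹ * y)⁻¹ := by simp only [coe_mul, coe_inv]; group
    _ = _ := by rw [e1, conj_inv.symm, e1, inv_inv]

namespace Loc

variable {D T : Subgroup X} (L : Loc D T)
include L

theorem le : D ≤ T := le_sylIn L.pg le_normalizer le_rfl L.syl

theorem eq_of_norm [Finite X] {C : Subgroup X} (hC : IsPGroup 2 C) (h1 : D ≤ C)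
    (h2 : normalizer (D : Set X) ≤ normalizer (C : Set X)) : C = D := by
  by_contra e
  refine (lt_inf_normalizer hC (lt_of_le_of_ne h1 (Ne.symm e))).not_ge (L.max _ hC.to_inf_left inf_le_right ?_)
  exact (le_inf h2 le_normalizer).trans inf_normalizer_le_normalizer_inf

variable [Finite X] (h : EPPO X)
include h

theorem cent_eq : centralizer (Z1 2 D : Set X) = D := by
  obtain ⟨z, z1, z2, z3⟩ := exists_central_iv L.pg L.ne
  refine L.eq_of_norm (isPGroup_of_pe fun x hx => h.pe_of_comm Nat.prime_two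
    (hx z (mem_z1 z1 z2.1 fun y hy => (z3 y hy).symm)) (pe_of_sq z2.1) z2.2)
    (fun x hx v hv => z1_comm hv hx) (le_normalizer_of_forall fun g hg x hx v hv => ?_)
  have := Commute.conj (show Commute _ x from hx _ (z1_conj (inv_mem hg) hv)) g
  simpa [mul_assoc] using this.eq

theorem mem_of_cent {x : X} (hx : ∀ v ∈ Z1 2 D, Commute v x) : x ∈ D := L.cent_eq h ▸ hx

theorem norm_le {g : X} (hg : ∀ v ∈ Z1 2 D, g * v * g⁻¹ ∈ Z1 2 D) : g ∈ normalizer (D : Set X) :=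
  mem_norm fun x hx => L.mem_of_cent h fun v hv => by
    simpa [mul_assoc] using (z1_comm (nconj' (mem_norm hg) hv) hx).conj g

theorem z_le' : Z1 2 T ≤ Z1 2 D := fun z hz =>
  mem_z1 (L.mem_of_cent h fun v hv => (z1_comm hz (L.le hv.1)).symm) (z1_sq hz)
    fun x hx => z1_comm hz (L.le hx)

omit h in
theorem qt_core (E : Subgroup (Qt D)) (hn : E.Normal) (hE : IsPGroup 2 E) : E = ⊥ := by
  have h1 : IsPGroup 2 (E.comap (qt D)) := hE.comap_of_ker_isPGroup _ (by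
    rw [QuotientGroup.ker_mk']; exact L.pg.comap_subtype)
  have := L.max _ (h1.map (normalizer (D : Set X)).subtype) (map_subtype_le _)
    (le_normalizer_of_forall (by
      rintro g hg _ ⟨x, hx, rfl⟩
      exact ⟨_, (hn.comap (qt D)).conj_mem x hx ⟨g, hg⟩, rfl⟩))
  rw [eq_bot_iff]
  intro q hq
  obtain ⟨y, rfl⟩ := qt_surj D q
  exact qt_one.2 (this ⟨y, hq, rfl⟩)

end Loc

end Cfsg.Agent.L0.EP
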