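import Cfsg.Agent.L0.EP.B0

/-! Failure of factorization in a `2`-local subgroup. -/

set_option autoImplicit false
set_option linter.unusedSectionVars false
set_option linter.unusedVariables false

namespace Cfsg.Agent.L0.EP

open Subgroup H3.BSW H2

variable {X : Type*} [Group X]

/-- `N(D)/D` is `SL₂(2ⁿ)` acting naturally on `Ω₁Z(D)` -/
structure Beta (D T : Subgroup X) (κ τ u : X) (n : ℕ) : Prop where
  one : 1 ≤ n
  pr : n = 1 ∨ (2 ^ n - 1).Prime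
  ord : orderOf κ = 2 ^ n - 1
  kY : κ ∈ normalizer (D : Set X)
  kT : ∀ t ∈ T, κ * t * κ⁻¹ ∈ T
  tY : τ ∈ normalizer (D : Set X)
  iv : Iv τ
  inv : τ * κ * τ⁻¹ = κ⁻¹
  uT : u ∈ T
  uD : u ∉ D
  cube : (u * τ) ^ 3 = 1
  disj : ∀ z ∈ Z1 2 T, τ * z * τ⁻¹ ∈ Z1 2 T → z = 1
  sq : ∀ t ∈ T, t * t ∈ D
  fix : ∀ t ∈ T, t ∉ D → ∀ v ∈ Z1 2 D, Commute v t → v ∈ Z1 2 T
  com : ∀ t ∈ T, ∀ v ∈ Z1 2 D, t * v * t⁻¹ * v⁻¹ ∈ Z1 2 T
  onto : ∀ v ∈ Z1 2 D, v ∉ Z1 2 T → ∀ z ∈ Z1 2 T, ∃ t ∈ T, t * v * t⁻¹ * v⁻¹ = z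
  cardZ : Nat.card (Z1 2 T) = 2 ^ n
  cardV : Nat.card (Z1 2 D) = 2 ^ n * 2 ^ n
  gen : ∀ t ∈ T, t ∉ D → ∃ i : ℕ, t⁻¹ * (κ ^ i * u * (κ ^ i)⁻¹) ∈ D
  jj : Z1 2 D ≤ JJ 2 T
  jj' : ∃ a ∈ JJ 2 T, a ∉ D
  odd : ∃ g ∈ normalizer (D : Set X), ∀ t ∈ T, t ∉ D →
    Odd (orderOf (t * (g * t * g⁻¹))) ∧ t * (g * t * g⁻¹) ∉ D

/-- fixed points in `V` -/
def CV (D : Subgroup X) (t : X) : Subgroup X := Z1 2 D ⊓ centralizer {t}

theorem mem_CV {D : Subgroup X} {t v : X} : v ∈ CV D t ↔ v ∈ Z1 2 D ∧ Commute v t := by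
  rw [CV, mem_inf, mem_centralizer_singleton_iff]; rfl

/-- the commutator map on `V` -/
def cmV {D : Subgroup X} {t : X} (ht : t ∈ normalizer (D : Set X)) : Z1 2 D →* X where
  toFun v := t * v * t⁻¹ * (v : X)⁻¹
  map_one' := by simp
  map_mul' a b := by
    have h1 := (z1_comm (inv_mem a.2) (mul_mem (z1_conj ht b.2) (inv_mem b.2)).1).eq
    simp only [coe_mul]
    calc _ = t * a * t⁻¹ * (t * b * t⁻¹ * (b : X)⁻¹ * (a : X)⁻¹) := by group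
      _ = _ := by rw [← h1]; group

variable [Finite X]

theorem card_CV_ge {D : Subgroup X} {t : X} (ht : t ∈ normalizer (D : Set X)) (h2 : t * t ∈ D) :
    (cmV ht).range ≤ CV D t ∧ Nat.card (Z1 2 D) = Nat.card (CV D t) * Nat.card (cmV ht).range := by
  constructor
  · rintro _ ⟨v, rfl⟩
    have h1 := mul_mem (z1_conj ht v.2) (inv_mem v.2)
    refine mem_CV.2 ⟨h1, (comm_of_conj ?_).symm⟩
    change t * (t * v * t⁻¹ * (v : X)⁻¹) * t⁻¹ = t * v * t⁻¹ * (v : X)⁻¹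
    calc _ = t * t * v * (t * t)⁻¹ * (t * v * t⁻¹)⁻¹ := by group
      _ = (t * v * t⁻¹ * (v : X)⁻¹)⁻¹ := by rw [← (z1_comm v.2 h2).eq]; group
      _ = _ := inv_eq_of_mul_eq_one_right (z1_sq h1)
  · rw [← card_mul_index (cmV ht).ker, index_ker]
    congr 1
    rw [← card_map_of_injective (Z1 2 D).subtype_injective]
    congr 2
    ext v
    rw [mem_CV]
    constructor
    · rintro ⟨v, hv, rfl⟩
      exact ⟨v.2, (comm_of_conj (mul_inv_eq_one.1 hv)).symm⟩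
    · exact fun hv => ⟨⟨v, hv.1⟩, show _ * v * _ * v⁻¹ = 1 by rw [← hv.2.eq]; group, rfl⟩

theorem card_CV_le (h : EPPO X) {D : Subgroup X} {t g : X} (hg : g ∈ normalizer (D : Set X))
    (ho : Odd (orderOf (t * (g * t * g⁻¹)))) (h1 : t * (g * t * g⁻¹) ≠ 1) :
    Nat.card (CV D t) * Nat.card (CV D t) ≤ Nat.card (Z1 2 D) := by
  rw [← Nat.card_prod]
  refine Nat.card_le_card_of_injective (fun p : CV D t × CV D t =>
    (⟨p.1 * (g * p.2 * g⁻¹), mul_mem p.1.2.1 (z1_conj hg p.2.2.1)⟩ : Z1 2 D)) fun p q e => ?_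
  have e1 : (p.1 : X) * (g * p.2 * g⁻¹) = q.1 * (g * q.2 * g⁻¹) := congrArg Subtype.val e
  have e2 : (q.1 : X)⁻¹ * p.1 = g * (q.2 * (p.2 : X)⁻¹) * g⁻¹ := by
    calc _ = (q.1 : X)⁻¹ * (p.1 * (g * p.2 * g⁻¹)) * (g * p.2 * g⁻¹)⁻¹ := by group
      _ = _ := by rw [e1]; group
  have a1 := mem_CV.1 (mul_mem (inv_mem q.1.2) p.1.2)
  have a2 := (mem_CV.1 (mul_mem q.2.2 (inv_mem p.2.2))).2.conj g
  rw [← e2] at a2
  have a3 := h.fpf (a1.2.mul_right a2) (pe_of_sq (z1_sq a1.1)) ho h1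
  rw [a3, eq_comm, conj_eq_one_iff, mul_inv_eq_one] at e2
  exact Prod.ext (Subtype.ext (inv_mul_eq_one.1 a3).symm) (Subtype.ext e2.symm)

theorem exists_EA {P V B : Subgroup X} (hV : EA 2 P V) (hB : EA 2 P B)
    (hc : ∀ v ∈ V, ∀ b ∈ B, v * b = b * v) : ∃ W, EA 2 P W ∧ V ≤ W ∧
    Nat.card V * Nat.card B ≤ Nat.card W * Nat.card (V ⊓ B : Subgroup X) := by
  let f : V × B →* X := MonoidHom.noncommCoprod V.subtype B.subtype (fun v b => hc v v.2 b b.2)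
  have hf : ∀ z : V × B, f z = z.1 * z.2 := fun z => rfl
  have h1 : EA 2 P f.range := by
    refine ⟨?_, ?_, ?_⟩
    · rintro _ ⟨z, rfl⟩
      exact P.mul_mem (hV.1 z.1.2) (hB.1 z.2.2)
    · rintro _ ⟨z, rfl⟩
      rw [← map_pow, show z ^ 2 = 1 from Prod.ext (Subtype.ext (hV.2.1 _ z.1.2))
        (Subtype.ext (hB.2.1 _ z.2.2)), map_one]
    · rintro _ ⟨z, rfl⟩ _ ⟨z', rfl⟩
      rw [← map_mul, ← map_mul, show z * z' = z' * z from Prod.ext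
        (Subtype.ext (hV.2.2 _ z.1.2 _ z'.1.2)) (Subtype.ext (hB.2.2 _ z.2.2 _ z'.2.2))]
  have h2 : Nat.card f.ker ≤ Nat.card (V ⊓ B : Subgroup X) := by
    refine Nat.card_le_card_of_injective (fun z => ⟨(z : V × B).1, (z : V × B).1.2, ?_⟩) ?_
    · have := z.2
      rw [MonoidHom.mem_ker, hf, mul_eq_one_iff_eq_inv] at this
      rw [this]
      exact B.inv_mem (z : V × B).2.2
    · intro z z' e
      have e1 : ((z : V × B).1 : X) = (z' : V × B).1 :=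
        congrArg (fun t : (V ⊓ B : Subgroup X) => (t : X)) e
      have h3 := z.2
      have h4 := z'.2
      rw [MonoidHom.mem_ker, hf] at h3 h4
      rw [← h4, e1] at h3
      exact Subtype.ext (Prod.ext (Subtype.ext e1) (Subtype.ext (mul_left_cancel h3)))
  have h3 := card_mul_index f.ker
  rw [index_ker, Nat.card_prod] at h3
  refine ⟨_, h1, fun v hv => ⟨(⟨v, hv⟩, 1), by simp [hf]⟩, ?_⟩
  rw [← h3, mul_comm]
  exact Nat.mul_le_mul_left _ h2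

namespace Loc

variable {D T : Subgroup X} (L : Loc D T) (h : EPPO X) (ti : TI (Qt D))
include L h ti

theorem exists_odd : ∃ g : normalizer (D : Set X), qt D g • bar L.syl ≠ bar L.syl ∧
    ∀ t ∈ T, t ∉ D → t * t ∈ D → Odd (orderOf (t * (g * t * (g : X)⁻¹))) ∧ t * (g * t * (g : X)⁻¹) ∉ D := by
  obtain ⟨T', h1, h2⟩ := L.ncl
  obtain ⟨q, hq⟩ := MulAction.exists_smul_eq (Qt D) (bar L.syl) (bar h1)
  obtain ⟨g, rfl⟩ := qt_surj D q
  have ne := bar_ne L.pg L.syl h1 h2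
  refine ⟨g, hq ▸ ne.symm, fun t t1 t2 t3 => ?_⟩
  set y : normalizer (D : Set X) := ⟨t, L.syl.1 t1⟩
  have y1 : Iv (qt D y) := ⟨by rw [← map_mul]; exact qt_one.2 t3, fun e => t2 (qt_one.1 e)⟩
  have y2 : qt D y ∈ bar L.syl := (mem_bar L.pg L.syl).2 t1
  have y3 := hq ▸ conj_mem_smul y2 (qt D g)
  have y4 : qt D (y * (g * y * g⁻¹)) ≠ 1 := fun e => by
    simp only [map_mul, map_inv] at e
    rw [eq_inv_of_mul_eq_one_right e, y1.inv] at y3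
    exact ne (ti _ _ _ y2 y3 y1.2)
  refine ⟨h.odd_lift (y := y * (g * y * g⁻¹)) ?_ y4, fun e => y4 (qt_one.2 e)⟩
  simpa only [map_mul, map_inv] using odd_mul' (h.qt D) ti ne y1 (y1.conj _) y2 y3

theorem card_CV {t : X} (t1 : t ∈ T) (t2 : t ∉ D) (t3 : t * t ∈ D) :
    Nat.card (CV D t) * Nat.card (CV D t) = Nat.card (Z1 2 D) ∧ (cmV (L.syl.1 t1)).range = CV D t := by
  obtain ⟨g, -, hg⟩ := L.exists_odd h ti
  obtain ⟨g1, g2⟩ := hg t t1 t2 t3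
  have a1 := card_CV_le h g.2 g1 fun e => g2 (e ▸ one_mem _)
  obtain ⟨a2, a3⟩ := card_CV_ge (L.syl.1 t1) t3
  have a4 : (cmV (L.syl.1 t1)).range = CV D t := eq_of_le_of_card_ge a2
    (Nat.le_of_mul_le_mul_left (a3 ▸ a1) Nat.card_pos)
  exact ⟨by rw [a3, a4], a4⟩

theorem pre {a : X} (a1 : a ∈ T) (a2 : a ∉ D) (a3 : a * a ∈ D) : ∃ (κ τ u : Qt D) (n : ℕ), 1 ≤ n ∧
    (n = 1 ∨ (2 ^ n - 1).Prime) ∧ orderOf κ = 2 ^ n - 1 ∧ κ • bar L.syl = bar L.syl ∧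
    Nat.card {t // t ∈ bar L.syl ∧ t * t = 1} = 2 ^ n ∧
    (∀ t ∈ bar L.syl, Iv t → ∃ i : ℕ, κ ^ i * u * (κ ^ i)⁻¹ = t) ∧ Iv τ ∧ τ * κ * τ⁻¹ = κ⁻¹ ∧
    τ ∉ bar L.syl ∧ u ∈ bar L.syl ∧ Iv u ∧
    ((∀ s ∈ bar L.syl, s * s = 1) → Nat.card (Z1 2 D) = 2 ^ n * 2 ^ n → (u * τ) ^ 3 = 1) := by
  obtain ⟨g, g0, hg⟩ := L.exists_odd h ti
  set y : normalizer (D : Set X) := ⟨a, L.syl.1 a1⟩
  have y1 : Iv (qt D y) := ⟨by rw [← map_mul]; exact qt_one.2 a3, fun e => a2 (qt_one.1 e)⟩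
  have y2 : qt D y ∈ bar L.syl := (mem_bar L.pg L.syl).2 a1
  by_cases hc : ∃ t ∈ bar L.syl, Iv t ∧ t ≠ qt D y
  · obtain ⟨t, t1, t2, t3⟩ := hc
    obtain ⟨κ, τ, u, b, n, z⟩ := exists_ZS (h.qt D) ti _ g0.symm t2 y1 t1 y2 t3
    have τ1 : τ ∉ bar L.syl := fun e => z.ne (smul_eq_of_mem e)
    refine ⟨κ, τ, u, n, z.two.trans' (by omega), Or.inr z.prime, z.ord, z.norm, z.cardO,
      z.trans u z.umem z.uiv, z.iv, z.inv, τ1, z.umem, z.uiv, fun h1 _ => ?_⟩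
    have b1 := h1 b z.amem
    have b2 := inv_eq_of_mul_eq_one_right b1
    have e1 := z.str
    rw [b2, z.iv.inv] at e1
    have e2 : τ * b * τ = u * τ * b := by
      calc τ * b * τ = τ * (b * τ * b) * b := by simp [mul_assoc, b1]
        _ = _ := by rw [← e1]; simp [← mul_assoc, z.iv.1]
    have e3 : u * τ * b = b * τ * u := by
      have : (u * τ * b)⁻¹ = u * τ * b := by
        rw [← e2]; simp [mul_assoc, b2, z.iv.inv]
      rw [← this]; simp [mul_assoc, b2, z.iv.inv, z.uiv.inv]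
    have e4 : Commute τ (b * u) := by
      change _ = _
      calc τ * (b * u) = u * (u * τ * b) * u := by simp [← mul_assoc, z.uiv.1]
        _ = u * b * τ := by rw [e3]; simp [mul_assoc, z.uiv.1]
        _ = _ := by rw [(z.cent u z.umem z.uiv.1 b z.amem).eq]
    have e5 : b = u := by
      by_contra e
      exact τ1 (cent_mem (h.qt D) ti (mul_mem z.amem z.umem)
        (fun e' => e (by rw [eq_inv_of_mul_eq_one_left e', z.uiv.inv])) e4)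
    rw [e5] at e1
    calc (u * τ) ^ 3 = u * τ * u * (τ * u * τ) := by simp [pow_succ, mul_assoc]
      _ = 1 := by rw [← e1, (z.uiv.conj τ).1.symm, z.iv.inv]
  push Not at hc
  obtain ⟨g1, g2⟩ := hg a a1 a2 a3
  refine ⟨1, _, _, 1, le_rfl, Or.inl rfl, orderOf_one, one_smul _ _, ?_,
    fun t t1 t2 => ⟨0, by simp [hc t t1 t2]⟩, y1.conj (qt D g), by simp,
    fun e => g0 (ti _ _ _ (conj_mem_smul y2 _) e (y1.conj _).2), y2, y1, fun _ e => ?_⟩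
  · refine Nat.card_eq_two_iff.2 ⟨⟨1, one_mem _, one_mul _⟩, ⟨_, y2, y1.1⟩,
      fun e => y1.2 (congrArg Subtype.val e).symm, Set.eq_univ_of_forall fun x => ?_⟩
    by_cases x1 : x.1 = 1
    · exact Or.inl (Subtype.ext x1)
    · exact Or.inr (Subtype.ext (hc x x.2.1 ⟨x.2.2, x1⟩))
  · have := h.order_dvd (L.pg.to_le (Z1_le D)) g1 fun z hz => z1_conj (y * (g * y * g⁻¹)).2 hz
    rw [e] at this
    have e1 : (y * (g * y * g⁻¹)) ^ 3 = 1 := Subtype.ext (orderOf_dvd_iff_pow_eq_one.1 this)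
    simpa only [map_mul, map_inv, map_pow, map_one] using congrArg (qt D) e1

theorem exists_beta {A : Subgroup X} (hA : EM 2 T A) {a : X} (a0 : a ∈ A) (a2 : a ∉ D) :
    ∃ κ τ u n, Beta D T κ τ u n := by
  have a1 := hA.1.1 a0
  have sqA : ∀ x ∈ A, x * x = 1 := fun x hx => by simpa [pow_two] using hA.1.2.1 x hx
  obtain ⟨κ', τ', u', n, n1, pr, ord, k1, cO, tr, τ1, τ2, τ3, u1, u2, cu⟩ :=
    L.pre h ti a1 a2 (sqA a a0 ▸ one_mem _)
  have pos : 0 < 2 ^ n := by positivity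
  have odd : Odd (2 ^ n - 1) := Nat.Even.sub_odd pos (Nat.even_pow.2 ⟨even_two, by omega⟩) odd_one
  obtain ⟨κ, rfl, k2⟩ := h.lift_odd L.pg (ord ▸ odd)
  rw [ord] at k2
  have mb : ∀ {y}, qt D y ∈ bar L.syl ↔ (y : X) ∈ T := mem_bar L.pg L.syl
  have kT : ∀ t ∈ T, κ * t * (κ : X)⁻¹ ∈ T := fun t ht => by
    refine (mb (y := κ * ⟨t, L.syl.1 ht⟩ * κ⁻¹)).1 ?_
    rw [map_mul, map_mul, map_inv]
    exact conj_mem_of_fix (mb.2 ht) k1
  have pZ := L.syl.2.1.to_le (Z1_le (p := 2) T)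
  have c1 : 2 ^ n ≤ Nat.card (Z1 2 T) := by
    have := h.order_dvd pZ (k2 ▸ odd) fun z hz => z1_conj (mem_norm kT) hz
    have h2 := (one_lt_card_iff_ne_bot _).2 (Z1_ne_bot L.syl.2.1 fun e => L.ne (le_bot_iff.1 (e ▸ L.le)))
    have := Nat.le_of_dvd (by omega) this
    omega
  have ZC : ∀ t ∈ T, Z1 2 T ≤ CV D t := fun t ht z hz => mem_CV.2 ⟨L.z_le' h hz, z1_comm hz ht⟩
  obtain ⟨c2, -⟩ := L.card_CV h ti a1 a2 (sqA a a0 ▸ one_mem _)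
  have eV : EA 2 T (Z1 2 D) := ⟨(Z1_le D).trans L.le, (ea_Z1 D).2⟩
  have eA : EA 2 T (A ⊓ D) := ⟨inf_le_left.trans hA.1.1, fun x hx => hA.1.2.1 x hx.1,
    fun x hx y hy => hA.1.2.2 x hx.1 y hy.1⟩
  have VA : Nat.card (Z1 2 D ⊓ (A ⊓ D) : Subgroup X) ≤ Nat.card (CV D a) :=
    card_le_of_le fun v hv => mem_CV.2 ⟨hv.1, hA.1.2.2 v hv.2.1 a a0⟩
  have c3 : Nat.card A ≤ Nat.card (A ⊓ D : Subgroup X) * 2 ^ n := by
    let f := (qt D).comp (inclusion (hA.1.1.trans L.syl.1))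
    rw [← card_mul_index f.ker, index_ker, ← cO]
    refine Nat.mul_le_mul (Nat.card_le_card_of_injective (fun x => ⟨x.1.1, x.1.2, qt_one.1 x.2⟩)
      fun x y e => Subtype.ext (Subtype.ext (congrArg (fun t : (A ⊓ D : Subgroup X) => (t : X)) e)))
      (Nat.card_le_card_of_injective (fun x => ⟨x.1, ?_⟩)
        fun x y e => Subtype.ext (Subtype.mk.inj e))
    obtain ⟨_, y, rfl⟩ := x
    exact ⟨mb.2 (hA.1.1 y.2), by rw [← map_mul, show y * y = 1 from Subtype.ext (sqA _ y.2), map_one]⟩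
  have c4 := EM.card_le hA eV eA fun v hv b hb => z1_comm hv hb.2
  have c5 : Nat.card (CV D a) ≤ 2 ^ n := by
    rw [← c2] at c4
    have := (c4.trans (Nat.mul_le_mul c3 VA))
    rw [mul_assoc, mul_comm] at this
    have := Nat.le_of_mul_le_mul_right this Nat.card_pos
    rw [mul_comm] at this
    exact Nat.le_of_mul_le_mul_left this Nat.card_pos
  have c6 := card_le_of_le (ZC a a1)
  have cZ : Nat.card (Z1 2 T) = 2 ^ n := by omega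
  have cV : Nat.card (Z1 2 D) = 2 ^ n * 2 ^ n := by rw [← c2, show Nat.card (CV D a) = 2 ^ n by omega]
  have CZ : ∀ t ∈ T, t ∉ D → t * t ∈ D → CV D t = Z1 2 T := fun t t1 t2 t3 =>
    (eq_of_le_of_card_ge (ZC t t1) (by
      rw [cZ, Nat.mul_self_inj.1 ((L.card_CV h ti t1 t2 t3).1.trans cV)])).symm
  have fix : ∀ t ∈ T, t ∉ D → ∀ v ∈ Z1 2 D, Commute v t → v ∈ Z1 2 T := fun t t1 t2 v v1 v2 => by
    set y : normalizer (D : Set X) := ⟨t, L.syl.1 t1⟩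
    obtain ⟨k, hk⟩ := exists_iv_pow (x := qt D y) fun e =>
      t2 (qt_one.1 ((pe_of_mem (bar L.syl).isPGroup' (mb.2 t1)).eq_one e))
    rw [← map_pow] at hk
    rw [← CZ (t ^ k) (pow_mem t1 k) (fun e => hk.2 (qt_one.2 e))
      ((qt_one (y := y ^ k * y ^ k)).1 (by rw [map_mul, hk.1]))]
    exact mem_CV.2 ⟨v1, v2.pow_right k⟩
  have com' : ∀ t ∈ T, t * t ∈ D → ∀ v ∈ Z1 2 D, t * v * t⁻¹ * v⁻¹ ∈ Z1 2 T := fun t t1 t3 v hv => by
    by_cases t2 : t ∈ D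
    · rw [← (z1_comm hv t2).eq]; simp [one_mem]
    rw [← CZ t t1 t2 t3, ← (L.card_CV h ti t1 t2 t3).2]
    exact ⟨⟨v, hv⟩, rfl⟩
  have cancel : ∀ v ∈ Z1 2 D, v ∉ Z1 2 T → ∀ s ∈ T, ∀ t ∈ T,
      s * v * s⁻¹ * v⁻¹ = t * v * t⁻¹ * v⁻¹ → s⁻¹ * t ∈ D := fun v v1 v2 s s1 t t1 e => by
    by_contra e'
    exact v2 (fix _ (mul_mem (inv_mem s1) t1) e' v v1 (comm_of_conj_eq (mul_right_cancel e)).symm)
  have onto : ∀ v ∈ Z1 2 D, v ∉ Z1 2 T → ∀ z ∈ Z1 2 T, ∃ t ∈ T, t * t ∈ D ∧ t * v * t⁻¹ * v⁻¹ = z := by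
    intro v v1 v2 z hz
    choose σ hσ using qt_surj D
    have s1 : ∀ q : {t // t ∈ bar L.syl ∧ t * t = 1}, (σ q : X) ∈ T := fun q => mb.1 (by rw [hσ]; exact q.2.1)
    have s2 : ∀ q : {t // t ∈ bar L.syl ∧ t * t = 1}, (σ q : X) * σ q ∈ D := fun q =>
      (qt_one (y := _ * _)).1 (by rw [map_mul, hσ]; exact q.2.2)
    let f : {t // t ∈ bar L.syl ∧ t * t = 1} → Z1 2 T := fun q => ⟨_, com' _ (s1 q) (s2 q) v v1⟩
    have hi : Function.Injective f := fun p q e => by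
      have := (qt_one (y := (σ p)⁻¹ * σ q)).2 (cancel v v1 v2 _ (s1 p) _ (s1 q) (congrArg Subtype.val e))
      rw [map_mul, map_inv, hσ, hσ] at this
      exact Subtype.ext (inv_mul_eq_one.1 this)
    obtain ⟨q, hq⟩ := (hi.bijective_of_nat_card_le (by rw [cZ, cO])).2 ⟨z, hz⟩
    exact ⟨_, s1 q, s2 q, congrArg Subtype.val hq⟩
  have sq : ∀ t ∈ T, t * t ∈ D := fun t ht => by
    obtain ⟨v, v1, v2⟩ : ∃ v ∈ Z1 2 D, v ∉ Z1 2 T := by
      by_contra hc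
      push Not at hc
      have := card_le_of_le (show Z1 2 D ≤ Z1 2 T from hc)
      have h2 : 2 ^ 1 ≤ 2 ^ n := Nat.pow_le_pow_right (by omega) n1
      rw [cZ, cV] at this
      nlinarith
    obtain ⟨v, v1, v2, v3⟩ := exists_step L.syl.2.1 eV.1 (fun t ht v hv => z1_conj (L.syl.1 ht) hv) v1 v2
    obtain ⟨s, s1, s2, s3⟩ := onto v v1 v2 _ (v3 t ht)
    have d := cancel v v1 v2 s s1 t ht s3
    have := mul_mem (mul_mem s2 (nconj' (L.syl.1 s1) d)) d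
    convert this using 1
    group
  obtain ⟨u, rfl⟩ := qt_surj D u'
  have cu := cu (fun s hs => by
    obtain ⟨y, rfl⟩ := qt_surj D s
    rw [← map_mul]; exact qt_one.2 (sq _ (mb.1 hs))) cV
  have ne : qt D u * τ' ≠ 1 := fun e => τ3 (by rw [eq_inv_of_mul_eq_one_right e]; exact inv_mem u1)
  have o3 : Odd (orderOf (qt D u * τ')) := (by decide : Odd 3).of_dvd_nat (orderOf_dvd_of_pow_eq_one cu)
  obtain ⟨τ, rfl, t1, t2⟩ : ∃ τ, qt D τ = τ' ∧ (τ : X) * τ = 1 ∧ (τ : X) * κ * (τ : X)⁻¹ = (κ : X)⁻¹ := by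
    by_cases k3 : (κ : X) = 1
    · obtain ⟨c, c1, c2⟩ := h.lift_odd L.pg o3
      obtain ⟨τ, t0, t1, -⟩ := h.lift_inv L.pg (c2 ▸ o3) (fun e => ne (by
        rw [← orderOf_eq_one_iff, ← c2, e, orderOf_one])) τ1.1 (by
          rw [c1, mul_inv_rev, u2.inv, τ1.inv]; simp [mul_assoc, τ1.1])
      exact ⟨τ, t0, t1, by simp [k3]⟩
    · exact h.lift_inv L.pg (k2 ▸ odd) k3 τ1.1 τ2
  rw [← map_mul] at cu ne o3
  have o4 := h.odd_lift o3 ne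
  have cube : ((u : X) * τ) ^ 3 = 1 :=
    (pe_of_mem L.pg ((qt_one (y := _ ^ 3)).1 (by rw [map_pow, cu]))).eq_one (odd_pow o4 3)
  refine ⟨κ, τ, u, n, n1, pr, k2, κ.2, kT, τ.2, ⟨t1, fun e => τ1.2 (by
    rw [show τ = 1 from Subtype.ext e, map_one])⟩, t2, mb.1 u1, fun e => u2.2 (qt_one.2 e), cube,
    fun z z1 z2 => ?_, sq, fix, fun t ht => com' t ht (sq t ht),
    fun v v1 v2 z hz => (onto v v1 v2 z hz).imp fun t ht => ⟨ht.1, ht.2.2⟩, cZ, cV, fun t t1 t2 => ?_,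
    ?_, ⟨a, hA.le_JJ a0, a2⟩, ?_⟩
  · have e1 := (z1_comm z2 (mb.1 u1)).mul_right ((z1_comm z1 (mb.1 u1)).conj τ)
    have e2 : (u : X) * (τ * u * (τ : X)⁻¹) = (u * τ) ^ 2 := by
      rw [inv_eq_of_mul_eq_one_right t1, pow_two]; group
    rw [e2] at e1
    simpa using h.fpf e1 (pe_of_sq (z1_sq z2)) (odd_pow o4 2) fun e =>
      ne (by rw [show u * τ = 1 from Subtype.ext (eq_one_of_odd_sq o4 (pow_two (u * τ : X) ▸ e)), map_one])
  · set y : normalizer (D : Set X) := ⟨t, L.syl.1 t1⟩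
    obtain ⟨i, hi⟩ := tr (qt D y) (mb.2 t1) ⟨by rw [← map_mul]; exact qt_one.2 (sq t t1),
      fun e => t2 (qt_one.1 e)⟩
    exact ⟨i, (qt_one (y := y⁻¹ * (κ ^ i * u * (κ ^ i)⁻¹))).1 (by
      simp only [map_mul, map_inv, map_pow, hi, inv_mul_cancel])⟩
  · obtain ⟨W, w1, w2, w3⟩ := exists_EA eV eA fun v hv b hb => z1_comm hv hb.2
    refine w2.trans (EM.le_JJ ⟨w1, fun C hC => (hA.2 C hC).trans (c3.trans ?_)⟩)
    have := w3.trans (Nat.mul_le_mul_left _ (VA.trans c5))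
    rw [cV, mul_assoc, mul_comm] at this
    rw [mul_comm]
    exact Nat.le_of_mul_le_mul_right this pos
  · obtain ⟨g, -, hg⟩ := L.exists_odd h ti
    exact ⟨g, g.2, fun t t1 t2 => hg t t1 t2 (sq t t1)⟩

end Loc

end Cfsg.Agent.L0.EP
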