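import Cfsg.Agent.L0.EP.B1

/-! Consequences of the failure of factorization. -/

set_option autoImplicit false
set_option linter.unusedSectionVars false
set_option linter.unusedVariables false

namespace Cfsg.Agent.L0.EP

open Subgroup H3.BSW H2

variable {X : Type*} [Group X]

theorem EPPO.cube (h : EPPO X) {D : Subgroup X} (hD : IsPGroup 2 D) {y d : X}
    (hy : y ∈ normalizer (D : Set X)) (y3 : y ^ 3 = 1) (y1 : y ≠ 1) (hd : d ∈ D) :
    (d * y) ^ 3 = 1 ∧ d * y ≠ 1 ∧ d * (y * d * y⁻¹) * (y * (y * d * y⁻¹) * y⁻¹) = 1 := by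
  have e : (d * y) ^ 3 = d * (y * d * y⁻¹) * (y * (y * d * y⁻¹) * y⁻¹) := by
    rw [← mul_one (d * _ * _), ← y3]; simp only [pow_succ]; group
  have m : (d * y) ^ 3 ∈ D := e ▸ mul_mem (mul_mem hd (nconj hy hd)) (nconj hy (nconj hy hd))
  have n : y ∉ D := fun hy => y1 ((pe_of_mem hD hy).eq_one_of_coprime y3 (by decide))
  have : (d * y) ^ 3 = 1 := by
    rcases h.pe_or_odd (d * y) with h1 | h1
    · exact absurd (qt_one.1 ((show PE 2 (EP.qt D ⟨y, hy⟩) from by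
        have : PE 2 (⟨d * y, mul_mem (le_normalizer hd) hy⟩ : normalizer (D : Set X)) :=
          h1.imp fun k hk => Subtype.ext hk
        have := this.map (EP.qt D)
        rwa [show (⟨d * y, _⟩ : normalizer (D : Set X)) = ⟨d, le_normalizer hd⟩ * ⟨y, hy⟩ from rfl,
          map_mul, qt_one.2 hd, one_mul] at this).eq_one_of_coprime (m := 3)
          (by rw [← map_pow, show (⟨y, hy⟩ : normalizer (D : Set X)) ^ 3 = 1 from Subtype.ext y3, map_one])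
          (by decide))) n
    · exact (pe_of_mem hD m).eq_one (odd_pow h1 3)
  exact ⟨this, fun e => n (by rw [eq_inv_of_mul_eq_one_right e]; exact inv_mem hd), e ▸ this⟩

theorem odd_of_cube {y : X} (y3 : y ^ 3 = 1) : Odd (orderOf y) :=
  (by decide : Odd 3).of_dvd_nat (orderOf_dvd_of_pow_eq_one y3)

theorem exists_sq_mem {D : Subgroup X} {s : X} (hs : PE 2 s) (h1 : s ∉ D) :
    ∃ k, s ^ k ∉ D ∧ s ^ k * s ^ k ∈ D := by
  obtain ⟨k, hk⟩ := hs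
  induction k generalizing s with
  | zero => exact absurd (by rw [show s = 1 by simpa using hk]; exact one_mem _) h1
  | succ k ih =>
    by_cases e : s * s ∈ D
    · exact ⟨1, by rwa [pow_one], by rwa [pow_one]⟩
    · obtain ⟨j, hj⟩ := ih e (by rw [← pow_two, ← pow_mul, ← pow_succ', hk])
      exact ⟨2 * j, by rwa [pow_mul, pow_two] ⟩

variable [Finite X]

namespace Beta

variable {D T : Subgroup X} {κ τ u : X} {n : ℕ} (B : Beta D T κ τ u n) (L : Loc D T) (h : EPPO X)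
include B L h

theorem yY : u * τ ∈ normalizer (D : Set X) := mul_mem (L.syl.1 B.uT) B.tY

theorem disjY {z : X} (h1 : z ∈ Z1 2 T) (h2 : u * τ * z * (u * τ)⁻¹ ∈ Z1 2 T) : z = 1 := by
  refine B.disj z h1 ?_
  convert z1_conj (inv_mem (le_normalizer B.uT)) h2 using 1
  group

theorem exists_z : ∃ z ∈ Z1 2 T, z ≠ 1 := by
  obtain ⟨z, hz⟩ := ne_bot_iff_exists_ne_one.1
    (Z1_ne_bot L.syl.2.1 fun e => L.ne (le_bot_iff.1 (e ▸ L.le)))
  exact ⟨z, z.2, fun e => hz (Subtype.ext e)⟩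

theorem y_ne : u * τ ≠ 1 := fun e => by
  obtain ⟨z, z1, z2⟩ := B.exists_z L h
  exact z2 (B.disjY L h z1 (by rwa [e, one_mul, inv_one, mul_one]))

theorem mem_V {b : X} (b1 : b ∈ D) (b2 : b * b = 1) (b3 : ∀ d ∈ D, b * d * b⁻¹ * d⁻¹ ∈ Z1 2 T) :
    b ∈ Z1 2 D := by
  refine mem_z1 b1 b2 fun d hd => comm_of_conj (mul_inv_eq_one.1 (B.disjY L h (b3 d hd) ?_))
  have yY := B.yY L h
  have cu := fun d hd => (h.cube (d := d) L.pg yY B.cube (B.y_ne L h) hd).2.2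
  have y3 : u * τ * (u * τ) * (u * τ) = 1 := by simpa only [pow_succ, pow_zero, one_mul] using B.cube
  generalize u * τ = y at *
  have zl := L.z_le' h
  have d1 := nconj yY hd
  have d2 := nconj yY d1
  have hA := b3 d hd
  have hB := b3 _ d1
  have hC := b3 _ d2
  have r : b * d * b⁻¹ * d⁻¹ * (b * (y * d * y⁻¹) * b⁻¹ * (y * d * y⁻¹)⁻¹) *
      (b * (y * (y * d * y⁻¹) * y⁻¹) * b⁻¹ * (y * (y * d * y⁻¹) * y⁻¹)⁻¹) = 1 := by
    have e0 := cu d hd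
    generalize y * (y * d * y⁻¹) * y⁻¹ = f at *
    generalize y * d * y⁻¹ = e at *
    calc _ = b * d * b⁻¹ * d⁻¹ * (d * (b * e * b⁻¹ * e⁻¹) * d⁻¹) *
        (d * e * (b * f * b⁻¹ * f⁻¹) * (d * e)⁻¹) := by
          rw [← (z1_comm (zl hB) hd).eq, ← (z1_comm (zl hC) (mul_mem hd d1)).eq]; group
      _ = b * (d * e * f) * b⁻¹ * (d * e * f)⁻¹ := by group
      _ = 1 := by rw [e0]; group
  set A := b * d * b⁻¹ * d⁻¹ with eA
  set P := b * (y * d * y⁻¹) * b⁻¹ * (y * d * y⁻¹)⁻¹ with eP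
  set C := b * (y * (y * d * y⁻¹) * y⁻¹) * b⁻¹ * (y * (y * d * y⁻¹) * y⁻¹)⁻¹ with eC
  have c : y * (y * P * y⁻¹) * y⁻¹ * (y * C * y⁻¹) * A = 1 := by
    have e := cu b b1
    have e1 : y * C * y⁻¹ = (y * b * y⁻¹) * d * (y * b * y⁻¹)⁻¹ * d⁻¹ := by
      calc _ = (y * b * y⁻¹) * (y * y * y * d * (y * y * y)⁻¹) * (y * b * y⁻¹)⁻¹ *
        (y * y * y * d * (y * y * y)⁻¹)⁻¹ := by rw [eC]; group
        _ = _ := by rw [y3]; group
    have e2 : y * (y * P * y⁻¹) * y⁻¹ = (y * (y * b * y⁻¹) * y⁻¹) * d * (y * (y * b * y⁻¹) * y⁻¹)⁻¹ * d⁻¹ := by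
      calc _ = (y * (y * b * y⁻¹) * y⁻¹) * (y * y * y * d * (y * y * y)⁻¹) * (y * (y * b * y⁻¹) * y⁻¹)⁻¹ *
        (y * y * y * d * (y * y * y)⁻¹)⁻¹ := by rw [eP]; group
        _ = _ := by rw [y3]; group
    have m1 := z1_conj yY (zl hC)
    have m2 := z1_conj yY (z1_conj yY (zl hB))
    have f1 := nconj yY b1
    rw [e1] at m1 ⊢
    rw [e2] at m2 ⊢
    generalize y * (y * b * y⁻¹) * y⁻¹ = g at *
    generalize y * b * y⁻¹ = f at *
    calc _ = b * f * (g * d * g⁻¹ * d⁻¹) * (b * f)⁻¹ * (b * (f * d * f⁻¹ * d⁻¹) * b⁻¹) * A := by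
          rw [← (z1_comm m2 (mul_mem b1 f1)).eq, ← (z1_comm m1 b1).eq]; group
      _ = (b * f * g) * d * (b * f * g)⁻¹ * d⁻¹ := by rw [eA]; group
      _ = 1 := by rw [e]; group
  have t := cu P (zl hB).1
  have p1 := z1_conj yY (zl hB)
  have : y * A * y⁻¹ = A * P⁻¹ := by
    have e1 : y * C * y⁻¹ = (y * A * y⁻¹ * (y * P * y⁻¹))⁻¹ := by
      rw [eq_inv_of_mul_eq_one_right r]; group
    rw [e1, eq_inv_of_mul_eq_one_right t, ← mul_inv_rev, inv_mul_eq_one] at c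
    calc _ = y * A * y⁻¹ * (y * P * y⁻¹ * (y * P * y⁻¹)) := by rw [z1_sq p1, mul_one]
      _ = y * A * y⁻¹ * (y * P * y⁻¹) * (y * P * y⁻¹ * P) * P⁻¹ := by group
      _ = _ := by rw [(z1_comm p1 (zl hB).1).eq, c]
  rw [this]
  exact mul_mem hA (inv_mem hB)

theorem le_V {b : X} (b1 : b ∈ T) (b2 : b ∉ D) (b3 : ∀ d ∈ D, b * d * b⁻¹ * d⁻¹ ∈ Z1 2 D) :
    D ≤ Z1 2 D := fun d hd => by
  obtain ⟨g, g1, hg⟩ := B.odd
  obtain ⟨o1, o2⟩ := hg b b1 b2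
  have bY := L.syl.1 b1
  obtain ⟨x, x1, x2⟩ := lang (c := (b * (g * b * g⁻¹))⁻¹)
    (fun x hx => nconj' (inv_mem (mul_mem bY (mul_mem (mul_mem g1 bY) (inv_mem g1)))) hx)
    (fun x hx e => h.fpf (by simpa only [inv_inv] using e.inv_right) (pe_of_mem L.pg hx) o1
      fun e => o2 (e ▸ one_mem _)) hd
  have := mul_mem (z1_conj bY (z1_conj g1 (b3 _ (nconj' g1 x1)))) (b3 x x1)
  convert this using 1
  rw [inv_mul_eq_iff_eq_mul.1 x2]; group

theorem key {b : X} (b1 : b ∈ T) (b2 : b * b = 1) (b3 : ∀ t ∈ T, t * b * t⁻¹ * b⁻¹ ∈ Z1 2 T)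
    (b4 : b ∉ Z1 2 D) : D ≤ Z1 2 D := by
  have b5 : ∀ d ∈ D, b * d * b⁻¹ * d⁻¹ ∈ Z1 2 T := fun d hd => by
    simpa [mul_assoc] using inv_mem (b3 d (L.le hd))
  exact B.le_V L h b1 (fun e => b4 (B.mem_V L h e b2 b5)) fun d hd => L.z_le' h (b5 d hd)

theorem oddk : Odd (orderOf κ) := B.ord ▸ Nat.Even.sub_odd Nat.one_le_two_pow
  (Nat.even_pow.2 ⟨even_two, by have := B.one; omega⟩) odd_one

theorem trans {z z' : X} (h1 : z ∈ Z1 2 T) (h2 : z ≠ 1) (h3 : z' ∈ Z1 2 T) (h4 : z' ≠ 1) :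
    ∃ i : ℕ, κ ^ i * z * (κ ^ i)⁻¹ = z' :=
  h.reg_trans (L.syl.2.1.to_le (Z1_le T)) (B.oddk L h) (fun z hz => z1_conj (mem_norm B.kT) hz)
    (by rw [B.cardZ, B.ord, Nat.sub_add_cancel Nat.one_le_two_pow]) h1 h2 h3 h4

theorem split {g : X} (hg : g ∈ normalizer (D : Set X))
    (hd : ∀ z ∈ Z1 2 T, g * z * g⁻¹ ∈ Z1 2 T → z = 1) {v : X} (hv : v ∈ Z1 2 D) :
    ∃ z ∈ Z1 2 T, ∃ z' ∈ Z1 2 T, v = z * (g * z' * g⁻¹) := by
  let f : Z1 2 T × Z1 2 T → Z1 2 D := fun p =>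
    ⟨p.1 * (g * p.2 * g⁻¹), mul_mem (L.z_le' h p.1.2) (z1_conj hg (L.z_le' h p.2.2))⟩
  have hi : Function.Injective f := fun p q e => by
    have e1 : (p.1 : X) * (g * p.2 * g⁻¹) = q.1 * (g * q.2 * g⁻¹) := congrArg Subtype.val e
    have e2 : (q.1 : X)⁻¹ * p.1 = g * (q.2 * (p.2 : X)⁻¹) * g⁻¹ := by
      calc _ = (q.1 : X)⁻¹ * (p.1 * (g * p.2 * g⁻¹)) * (g * p.2 * g⁻¹)⁻¹ := by group
        _ = _ := by rw [e1]; group
    have a := hd _ (mul_mem q.2.2 (inv_mem p.2.2)) (e2 ▸ mul_mem (inv_mem q.1.2) p.1.2)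
    rw [a, mul_one, mul_inv_cancel] at e2
    exact Prod.ext (Subtype.ext (inv_mul_eq_one.1 e2).symm) (Subtype.ext (mul_inv_eq_one.1 a).symm)
  obtain ⟨p, hp⟩ := (hi.bijective_of_nat_card_le (by rw [Nat.card_prod, B.cardZ, B.cardV])).2 ⟨v, hv⟩
  exact ⟨_, p.1.2, _, p.2.2, (congrArg Subtype.val hp).symm⟩

theorem conj_z {v : X} (hv : v ∈ Z1 2 D) : ∃ g ∈ normalizer (D : Set X), ∃ z ∈ Z1 2 T, v = g * z * g⁻¹ := by
  obtain ⟨z, z1, z', z2, rfl⟩ := B.split L h B.tY B.disj hv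
  by_cases e : z' = 1
  · exact ⟨1, one_mem _, z, z1, by simp [e]⟩
  obtain ⟨t, t1, t2⟩ := B.onto _ (z1_conj B.tY (L.z_le' h z2)) (fun e' => e (B.disj _ z2 e')) z z1
  exact ⟨t * τ, mul_mem (L.syl.1 t1) B.tY, z', z2, by rw [← t2]; group⟩

theorem norm_le (hT : SylIn 2 T ⊤) : normalizer (T : Set X) ≤ normalizer (D : Set X) := fun g hg => by
  obtain ⟨z, z1, z2⟩ := B.exists_z L h
  obtain ⟨i, hi⟩ := B.trans L h z1 z2 (z1_conj hg z1) (by simpa using z2)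
  have c := comm_of_conj_eq hi
  have e := hT.2.2 (centralizer {z}) le_top (isPGroup_of_pe fun x hx => h.pe_of_comm Nat.prime_two
    (mem_centralizer_singleton_iff.1 hx).symm (pe_of_sq (z1_sq z1)) z2)
    fun x hx => mem_centralizer_singleton_iff.2 (z1_comm z1 hx).symm
  have := mul_mem (pow_mem B.kY i) (L.syl.1 (e ▸ mem_centralizer_singleton_iff.2 c))
  rwa [mul_inv_cancel_left] at this

theorem quad {U : Type*} [Group U] (ρ : X →* MulAut U) (hc : ∀ a b : U, a * b = b * a)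
    (hf : ∀ g : X, Odd (orderOf g) → g ≠ 1 → ∀ x, ρ g x = x → x = 1) {w w' : X} (hw : w ∈ Z1 2 D)
    (w1 : w ≠ 1) (hw' : w' ∈ Z1 2 D) {x : U} (hx : ρ w x = x) : ρ w' x = x := by
  have yY := B.yY L h
  have ma : ∀ (a b : X) (x : U), ρ (a * b) x = ρ a (ρ b x) := fun a b x => by rw [map_mul]; rfl
  have nm : ∀ g : X, g ^ 3 = 1 → g ≠ 1 → ∀ x, x * ρ g x * ρ g (ρ g x) = 1 := fun g g3 g1 x =>
    hf g (odd_of_cube g3) g1 _ (by
      have : ρ g (ρ g (ρ g x)) = x := by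
        rw [← ma, ← ma, ← pow_two, ← pow_succ, g3, map_one]; rfl
      rw [map_mul, map_mul, this, hc _ x, mul_assoc])
  have main : ∀ z ∈ Z1 2 T, z ≠ 1 → ∀ w ∈ Z1 2 D, ∀ x, ρ z x = x → ρ w x = x := fun z z1 z2 => by
    have y3 := B.cube
    have y1 := B.y_ne L h
    have dj := fun z => B.disjY L h (z := z)
    have sp := fun v => B.split L h (v := v) yY fun z => B.disjY L h (z := z)
    generalize u * τ = y at *
    have inv : ∀ x, ρ z x = x → ρ z (ρ y⁻¹ x) = ρ y⁻¹ x := fun x hx => by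
      obtain ⟨a1, a2, -⟩ := h.cube L.pg (inv_mem yY) (by rw [inv_pow, y3, inv_one]) (inv_ne_one.2 y1)
        (L.z_le' h z1).1
      have b1 := nm (y⁻¹ * z) (by
        have := congrArg (fun a => z⁻¹ * a * z) a1
        simpa [pow_succ, mul_assoc] using this) (fun e => a2 (by rw [← mul_eq_one_comm, e])) x
      have b2 := nm y⁻¹ (by rw [inv_pow, y3, inv_one]) (inv_ne_one.2 y1) x
      rw [ma, ma, hx, ← b2, mul_right_inj] at b1
      exact (ρ y⁻¹).injective b1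
    have cj : ∀ g w : X, (∀ x, ρ z x = x → ρ z (ρ g⁻¹ x) = ρ g⁻¹ x) → (∀ x, ρ z x = x → ρ w x = x) →
        ∀ x, ρ z x = x → ρ (g * w * g⁻¹) x = x := fun g w h1 h2 x hx => by
      rw [ma, ma, h2 _ (h1 x hx), ← ma, mul_inv_cancel, map_one]; rfl
    have v1 := cj y z inv fun _ e => e
    have zz : ∀ a ∈ Z1 2 T, ∀ x, ρ z x = x → ρ a x = x := fun a ha x hx => by
      obtain ⟨t, t1, rfl⟩ := B.onto _ (z1_conj yY (L.z_le' h z1)) (fun e => z2 (dj z z1 e)) a ha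
      rw [ma, show ρ (y * z * y⁻¹)⁻¹ x = x by rw [map_inv, MulAut.inv_def, MulEquiv.symm_apply_eq, v1 x hx]]
      exact cj t _ (fun x hx => by rw [← ma, (z1_comm z1 (inv_mem t1)).eq, ma, hx]) v1 x hx
    intro w hw x hx
    obtain ⟨a, a1, b, b1, rfl⟩ := sp w hw
    rw [ma, cj y b inv (zz b b1) x hx, zz a a1 x hx]
  obtain ⟨g, g1, z, z1, rfl⟩ := B.conj_z L h hw
  have := main z z1 (by simpa using w1) _ (z1_conj (inv_mem g1) hw') (ρ g⁻¹ x) (by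
    rw [← ma, show z * g⁻¹ = g⁻¹ * (g * z * g⁻¹) by group, ma, hx])
  rw [← ma, show g⁻¹ * w' * g⁻¹⁻¹ * g⁻¹ = g⁻¹ * w' by group, ma] at this
  exact (ρ g⁻¹).injective this

end Beta

end Cfsg.Agent.L0.EP
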