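import Cfsg.Agent.L0.EP.B2

/-! The dichotomy: trivial intersections, or a rank two configuration. -/

set_option autoImplicit false
set_option linter.unusedSectionVars false
set_option linter.unusedVariables false

namespace Cfsg.Agent.L0.EP

open Subgroup H3.BSW H2

universe u

variable {X : Type u} [Group X]

/-- the rank two configuration -/
def Config (X : Type*) [Group X] : Prop :=
  ∃ (D T : Subgroup X) (κ τ u : X) (n : ℕ), Loc D T ∧ Beta D T κ τ u n ∧ D ≤ Z1 2 D ∧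
    ((∃ g ∈ normalizer (T : Set X), g * g ∈ T ∧ g ∉ normalizer (D : Set X)) ∨
      (SylIn 2 T ⊤ ∧ ∃ (D' : Subgroup X) (κ' τ' u' : X), Loc D' T ∧ Beta D' T κ' τ' u' n ∧
        D' ≤ Z1 2 D' ∧ D' ≠ D))

variable [Finite X]

theorem not_config (h : EPPO X) {U : Type*} [Group U] (ρ : X →* MulAut U) (hi : Function.Injective ρ)
    (hc : ∀ a b : U, a * b = b * a) (h2 : ∀ a : U, a * a = 1)
    (hf : ∀ g : X, Odd (orderOf g) → g ≠ 1 → ∀ x, ρ g x = x → x = 1) : ¬ Config X := by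
  rintro ⟨D, T, κ, τ, u, n, L, B, hD, hcf⟩
  obtain ⟨z, z1, z2⟩ := B.exists_z L h
  have ma : ∀ (a b : X) (x : U), ρ (a * b) x = ρ a (ρ b x) := fun a b x => by rw [map_mul]; rfl
  have fx : ∀ w : X, w * w = 1 → ∀ x, ρ w (ρ w x * x) = ρ w x * x := fun w hw x => by
    rw [map_mul, ← ma, hw, map_one, hc]; rfl
  have main : ∀ b : X, b * b = 1 → (∀ x, ρ z x = x → ρ b x = x) → (b ≠ 1 → ∀ x, ρ b x = x → ρ z x = x) →
      b ∈ D := fun b b1 b2 b3 => L.mem_of_cent h fun v hv => by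
    by_cases e : b = 1
    · exact e ▸ Commute.one_right v
    by_cases e' : v = 1
    · exact e' ▸ Commute.one_left b
    refine hi (MulEquiv.ext fun x => ?_)
    have a1 := b2 _ (B.quad L h ρ hc hf hv e' (L.z_le' h z1) (fx v (z1_sq hv) x))
    have a2 := B.quad L h ρ hc hf (L.z_le' h z1) z2 hv (b3 e _ (fx b b1 x))
    rw [map_mul] at a1 a2
    rw [ma, ma, eq_mul_inv_of_mul_eq a1, eq_mul_inv_of_mul_eq a2, inv_eq_of_mul_eq_one_right (h2 _),
      inv_eq_of_mul_eq_one_right (h2 _), hc (ρ v x) x, hc (ρ b x) x, mul_assoc, mul_assoc, hc (ρ v x)]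
  rcases hcf with ⟨g, g1, g2, g3⟩ | ⟨-, D', κ', τ', u', L', B', hD', ne⟩
  · refine g3 (L.norm_le h fun v hv => hD (main _ ?_ (fun x hx => ?_) fun e x hx => ?_))
    · rw [conj_mul, z1_sq hv]; simp
    · have := B.quad L h ρ hc hf (L.z_le' h (z1_conj (inv_mem g1) z1)) (by rwa [Ne, conj_eq_one_iff]) hv
        (x := ρ g⁻¹ x) (by rw [← ma, show g⁻¹ * z * g⁻¹⁻¹ * g⁻¹ = g⁻¹ * z by group, ma, hx])
      rw [ma, ma, this, ← ma, mul_inv_cancel, map_one]; rfl
    · have := B.quad L h ρ hc hf hv (by simpa using e) (L.z_le' h (z1_conj (inv_mem g1) z1))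
        (x := ρ g⁻¹ x) (by rw [← ma, show v * g⁻¹ = g⁻¹ * (g * v * g⁻¹) by group, ma, hx])
      rw [← ma, show g⁻¹ * z * g⁻¹⁻¹ * g⁻¹ = g⁻¹ * z by group, ma] at this
      exact (ρ g⁻¹).injective this
  · have le : D' ≤ D := fun b hb => main b (z1_sq (hD' hb))
      (fun x => B'.quad L' h ρ hc hf (L'.z_le' h z1) z2 (hD' hb))
      fun e x => B'.quad L' h ρ hc hf (hD' hb) e (L'.z_le' h z1)
    exact ne (le_antisymm le fun v hv => L'.mem_of_cent h fun w hw => (z1_comm (hD hv) (le hw.1)).symm)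

theorem Loc.not_config {D T : Subgroup X} (L : Loc D T) (h : EPPO X) : ¬ Config (Qt D) := by
  let ρ0 : normalizer (D : Set X) →* MulAut (Z1 2 D) :=
    (Z1 2 D).normalizerMonoidHom.comp (inclusion (normalizer_le_Z1 D))
  have e0 : ∀ (g : normalizer (D : Set X)) (v : Z1 2 D), (ρ0 g v : X) = g * v * (g : X)⁻¹ := fun g v => rfl
  have hk : ∀ g ∈ D.subgroupOf (normalizer (D : Set X)), ρ0 g = 1 := fun g hg =>
    MulEquiv.ext fun v => Subtype.ext (by
      rw [e0, ← (z1_comm v.2 (show (g : X) ∈ D from hg)).eq, mul_inv_cancel_right]; rfl)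
  refine EP.not_config (h.qt D) (QuotientGroup.lift _ ρ0 hk) ((injective_iff_map_eq_one _).2 fun q hq => ?_)
    (fun a b => Subtype.ext (z1_comm a.2 b.2.1)) (fun a => Subtype.ext (z1_sq a.2)) fun q q1 q2 x hx => ?_
  · obtain ⟨y, rfl⟩ := qt_surj D q
    refine qt_one.2 (L.mem_of_cent h fun v hv => (comm_of_conj ?_).symm)
    exact congrArg (fun f : MulAut (Z1 2 D) => (f ⟨v, hv⟩ : X)) hq
  · obtain ⟨y, rfl⟩ := qt_surj D q
    exact Subtype.ext (h.fpf (comm_of_conj (congrArg Subtype.val hx)).symm (pe_of_sq (z1_sq x.2))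
      (h.odd_lift (y := y) q1 q2) fun e => q2 (by rw [show y = 1 from Subtype.ext e, map_one]))

theorem Loc.swap {D T T' : Subgroup X} (L : Loc D T) (h : SylIn 2 T' (normalizer (D : Set X))) :
    Loc D T' := ⟨L.ne, L.pg, L.max, h, by
  by_cases e : T = T'
  · exact e ▸ L.ncl
  · exact ⟨T, L.syl, e⟩⟩

theorem Loc.conj {D T : Subgroup X} (L : Loc D T) (e : X ≃* X) : Loc (D.map e.toMonoidHom) (T.map e.toMonoidHom) := by
  have syl : ∀ T, SylIn 2 T (normalizer (D : Set X)) →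
      SylIn 2 (T.map e.toMonoidHom) (normalizer (D.map e.toMonoidHom : Set X)) := fun T hT => by
    rw [← map_equiv_normalizer_eq]
    refine ⟨map_mono hT.1, hT.2.1.map _, fun R r1 r2 r3 => ?_⟩
    rw [← hT.2.2 (R.comap e.toMonoidHom) (by
      rwa [← map_le_map_iff_of_injective (f := e.toMonoidHom) e.injective,
        map_comap_eq_self_of_surjective e.surjective])
      (r2.comap_of_injective _ e.injective) (map_le_iff_le_comap.1 r3),
      map_comap_eq_self_of_surjective e.surjective]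
  refine ⟨fun h => L.ne ((map_eq_bot_iff_of_injective _ e.injective).1 h), L.pg.map _, fun E e1 e2 e3 => ?_,
    syl T L.syl, ?_⟩
  · rw [← map_comap_eq_self_of_surjective (f := e.toMonoidHom) e.surjective E] at e2 e3 ⊢
    rw [← map_equiv_normalizer_eq, map_le_map_iff_of_injective e.injective] at e2
    rw [← map_equiv_normalizer_eq, ← map_equiv_normalizer_eq, map_le_map_iff_of_injective e.injective] at e3
    exact map_mono (L.max _ (e1.comap_of_injective _ e.injective) e2 e3)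
  · obtain ⟨T', h1, h2⟩ := L.ncl
    exact ⟨_, syl T' h1, fun e' => h2 (map_injective e.injective e')⟩

theorem max_pair (ρ : Sylow 2 X → Sylow 2 X → Prop) (hρ : Equivalence ρ) {P Q : Sylow 2 X} (h0 : ¬ ρ P Q)
    {x : X} (x1 : x ∈ P) (x2 : x ∈ Q) (x3 : x ≠ 1) : ∃ (D T T' : Subgroup X) (P Q : Sylow 2 X),
      Loc D T ∧ Loc D T' ∧ T ≤ P ∧ T' ≤ Q ∧ ¬ ρ P Q := by
  obtain ⟨⟨P, Q⟩, h1, h2⟩ := Set.exists_max_image {p : Sylow 2 X × Sylow 2 X | ¬ ρ p.1 p.2}
    (fun p => Nat.card ((p.1 : Subgroup X) ⊓ p.2 : Subgroup X)) (Set.toFinite _) ⟨(P, Q), h0⟩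
  have big : ∀ R S : Sylow 2 X, (P : Subgroup X) ⊓ Q < (R : Subgroup X) ⊓ S → ρ R S := fun R S hlt => by
    by_contra e
    exact (card_lt_of_lt hlt).not_ge (h2 (R, S) e)
  have ne : P ≠ Q := fun e => h1 (by rw [show (P, Q).2 = P from e.symm]; exact hρ.refl P)
  have l1 := lt_inf_normalizer P.isPGroup' (lt_of_le_of_ne inf_le_left fun e =>
    ne (Sylow.ext (P.is_maximal' Q.isPGroup' (inf_eq_left.1 e)).symm))
  have l2 := lt_inf_normalizer Q.isPGroup' (lt_of_le_of_ne inf_le_right fun e =>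
    ne (Sylow.ext (Q.is_maximal' P.isPGroup' (inf_eq_right.1 e))))
  obtain ⟨T, t1, t2⟩ := exists_sylIn (P.isPGroup'.to_inf_left) (inf_le_right (a := (P : Subgroup X))
    (b := normalizer (((P : Subgroup X) ⊓ Q : Subgroup X) : Set X)))
  obtain ⟨T', s1, s2⟩ := exists_sylIn (Q.isPGroup'.to_inf_left) (inf_le_right (a := (Q : Subgroup X))
    (b := normalizer (((P : Subgroup X) ⊓ Q : Subgroup X) : Set X)))
  obtain ⟨R, r1⟩ := t1.2.1.exists_le_sylow
  obtain ⟨S, r2⟩ := s1.2.1.exists_le_sylow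
  have a1 := big P R (l1.trans_le (le_inf inf_le_left (t2.trans r1)))
  have a2 := big Q S (l2.trans_le (le_inf inf_le_left (s2.trans r2)))
  have a3 : ¬ ρ R S := fun e => h1 (hρ.trans a1 (hρ.trans e (hρ.symm a2)))
  have L : Loc ((P : Subgroup X) ⊓ Q) T := by
    refine ⟨fun e => ?_, P.isPGroup'.to_inf_left, fun E e1 e2 e3 => ?_, t1, T', s1, fun e => ?_⟩
    · have := h2 (_, _) h0
      simp only [e, card_bot, card_le_one_iff_eq_bot] at this
      exact x3 (mem_bot.1 (this ▸ ⟨x1, x2⟩))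
    · have := eq_of_le_of_card_ge (le_inf (l1.le.trans (t2.trans r1)) (l2.le.trans (s2.trans r2))) (h2 (R, S) a3)
      rw [this]
      exact le_inf ((le_sylIn e1 e2 e3 t1).trans r1) ((le_sylIn e1 e2 e3 s1).trans r2)
    · exact h1 (hρ.trans a1 (hρ.symm (big Q R (l2.trans_le (le_inf inf_le_left (s2.trans (e ▸ r1)))))))
  exact ⟨_, T, T', R, S, L, L.swap s1, r1, r2, a3⟩

theorem strong_emb (hO : ∀ E : Subgroup X, E.Normal → IsPGroup 2 E → E = ⊥) {D : Subgroup X}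
    (hD : IsPGroup 2 D) (h0 : D ≠ ⊥) {i : X} (i1 : Iv i) (i2 : i ∈ normalizer (D : Set X)) (i3 : i ∉ D)
    (se : ∀ g i : X, Iv i → i ∈ normalizer (D : Set X) → g * i * g⁻¹ ∈ normalizer (D : Set X) →
      g ∈ normalizer (D : Set X)) : False := by
  obtain ⟨z, z1, z2, -⟩ := exists_central_iv hD h0
  obtain ⟨g, hg⟩ : ∃ g, g ∉ normalizer (D : Set X) := by
    by_contra e
    push Not at e
    exact h0 (hO D (normalizer_eq_top_iff.1 (eq_top_iff.2 fun g _ => e g)) hD)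
  have j : g * z * g⁻¹ ∉ normalizer (D : Set X) := fun e => hg (se g z z2 (le_normalizer z1) e)
  obtain ⟨w, -, w2⟩ := swap_of_odd (z2.conj g) i1 (by
    by_contra e
    obtain ⟨c, c1, c2, c3⟩ := exists_iv_comm (z2.conj g) i1 e
    have c4 := se c i i1 i2 (by rwa [← c3.eq, mul_inv_cancel_right])
    exact j (se _ c c1 c4 (by rwa [c2.eq, mul_inv_cancel_right])))
  have e : w * g * z * (w * g)⁻¹ = i := by rw [← w2]; group
  exact i3 (e ▸ nconj (se _ z z2 (le_normalizer z1) (e ▸ i2)) z1)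

namespace Loc

variable {D T : Subgroup X} (L : Loc D T) (h : EPPO X) (ti : TI (Qt D))
include L h ti

theorem exists_t : ∃ t ∈ T, t ∉ D ∧ t * t ∈ D := by
  obtain ⟨s, s1, s2⟩ : ∃ s ∈ T, s ∉ D := by
    by_contra e
    push Not at e
    obtain ⟨T', h1, h2⟩ := L.ncl
    exact h2 (L.syl.2.2 T' h1.1 h1.2.1 (le_trans e (L.swap h1).le))
  obtain ⟨k, hk⟩ := exists_sq_mem (pe_of_mem L.syl.2.1 s1) s2
  exact ⟨_, pow_mem s1 k, hk⟩

theorem exists_i : ∃ i, Iv i ∧ i ∈ normalizer (D : Set X) ∧ i ∉ D := by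
  obtain ⟨t, t1, t2, t3⟩ := L.exists_t h ti
  obtain ⟨g, -, hg⟩ := L.exists_odd h ti
  obtain ⟨o1, o2⟩ := hg t t1 t2 t3
  set y : normalizer (D : Set X) := ⟨t, L.syl.1 t1⟩
  have y1 : Iv (qt D y) := ⟨by rw [← map_mul]; exact qt_one.2 t3, fun e => t2 (qt_one.1 e)⟩
  obtain ⟨i, i1, i2, -⟩ := h.lift_inv L.pg (c := y * (g * y * g⁻¹)) o1 (fun e => o2 (by
    rw [show t * (g * t * (g : X)⁻¹) = 1 from e]; exact one_mem _)) y1.1 (by
      simpa only [map_mul, map_inv] using inverts_mul y1 (y1.conj (qt D g)))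
  have i3 : (i : X) ∉ D := fun e => y1.2 (i1 ▸ qt_one.2 e)
  exact ⟨i, ⟨i2, fun e => i3 (e ▸ one_mem _)⟩, i.2, i3⟩

theorem ti_inf {T' : Subgroup X} (h1 : SylIn 2 T' (normalizer (D : Set X))) (h2 : T' ≠ T) {x : X}
    (x1 : x ∈ T) (x2 : x ∈ T') : x ∈ D := by
  by_contra e
  exact bar_ne L.pg L.syl h1 h2 (ti _ _ (qt D ⟨x, L.syl.1 x1⟩) ((mem_bar L.pg L.syl).2 x1)
    ((mem_bar L.pg h1).2 x2) fun e' => e (qt_one.1 e'))

theorem dich : JJ 2 T ≤ D ∨ ∃ κ τ u n, Beta D T κ τ u n := by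
  by_cases e : JJ 2 T ≤ D
  · exact Or.inl e
  obtain ⟨A, hA, a, a1, a2⟩ : ∃ A, EM 2 T A ∧ ∃ a ∈ A, a ∉ D := by
    by_contra e'
    push Not at e'
    exact e (sSup_le e')
  exact Or.inr (L.exists_beta h ti hA a1 a2)

theorem not_alpha {D' : Subgroup X} {κ τ u : X} {n : ℕ} (L' : Loc D' T) (B : Beta D' T κ τ u n) :
    ¬ JJ 2 T ≤ D := fun hJ => by
  obtain ⟨t, t1, t2, t3⟩ := L.exists_t h ti
  obtain ⟨v, v1, v2⟩ : ∃ v ∈ Z1 2 D, v ∉ Z1 2 T := by
    by_contra e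
    push Not at e
    exact t2 (L.mem_of_cent h fun v hv => z1_comm (e v hv) t1)
  obtain ⟨v, v1, v2, v3⟩ := exists_step L.syl.2.1 ((Z1_le D).trans L.le)
    (fun t ht v hv => z1_conj (L.syl.1 ht) hv) v1 v2
  obtain ⟨a, a1, a2⟩ := B.jj'
  refine v2 (B.fix a (JJ_le T a1) a2 v (B.mem_V L' h (L'.mem_of_cent h fun w hw =>
    (z1_comm v1 (hJ (B.jj hw))).symm) (z1_sq v1) fun d hd => ?_) (z1_comm v1 (hJ a1)))
  simpa [mul_assoc] using inv_mem (v3 d (L'.le hd))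

end Loc

theorem Loc.alpha {D T : Subgroup X} (L : Loc D T) (h : EPPO X)
    (star : ∀ D T : Subgroup X, Loc D T → TI (Qt D)) (hJ : JJ 2 T ≤ D) :
    normalizer (D : Set X) = normalizer (JJ 2 T : Set X) ∧ SylIn 2 T ⊤ := by
  have l1 : normalizer (D : Set X) ≤ normalizer (JJ 2 T : Set X) :=
    JJ_eq_of_le hJ L.le ▸ normalizer_le_JJ D
  obtain ⟨E, ⟨e1, e2, e3⟩, e4⟩ := Set.exists_max_image
    {E : Subgroup X | IsPGroup 2 E ∧ JJ 2 T ≤ E ∧ normalizer (JJ 2 T : Set X) ≤ normalizer (E : Set X)}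
    (fun E => Nat.card E) (Set.toFinite _) ⟨_, L.pg.to_le hJ, le_rfl, le_rfl⟩
  obtain ⟨T', t1, t2⟩ := L.ncl
  obtain ⟨R, r1, r2⟩ := exists_sylIn L.syl.2.1 (L.syl.1.trans (l1.trans e3))
  obtain ⟨R', s1, s2⟩ := exists_sylIn t1.2.1 (t1.1.trans (l1.trans e3))
  have ne : R' ≠ R := fun e => t2 (by
    have a := L.syl.2.2 _ inf_le_right r1.2.1.to_inf_left (le_inf r2 L.syl.1)
    rw [← a]
    exact (t1.2.2 _ inf_le_right r1.2.1.to_inf_left (le_inf (e ▸ s2) t1.1)).symm)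
  have LE : Loc E R := ⟨fun e => JJ_ne_bot L.syl.2.1 (fun e => L.ne (le_bot_iff.1 (e ▸ L.le)))
    (le_bot_iff.1 (e ▸ e2)), e1, fun F f1 f2 f3 => by
      have := eq_of_le_of_card_ge (le_sup_left (a := E) (b := F)) (e4 _ ⟨e1.to_sup_of_normal_left' f1 f2,
        e2.trans le_sup_left, (le_inf e3 (e3.trans f3)).trans (normalizer_inf_normalizer_le_normalizer_sup E F)⟩)
      exact this ▸ le_sup_right, r1, R', s1, ne⟩
  have e5 : E = D := L.eq_of_norm e1 (fun x hx => LE.ti_inf h (star _ _ LE) s1 ne (r2 (L.le hx))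
    (s2 ((L.swap t1).le hx))) (l1.trans e3)
  subst e5
  refine ⟨le_antisymm l1 e3, le_top, L.syl.2.1, fun S _ s1 s2 => ?_⟩
  by_contra e
  exact (lt_inf_normalizer s1 (lt_of_le_of_ne s2 (Ne.symm e))).ne' (L.syl.2.2 _
    (inf_le_right.trans ((normalizer_le_JJ T).trans e3)) s1.to_inf_left (le_inf s2 le_normalizer))

theorem Beta.two {D D' T : Subgroup X} {κ τ u κ' τ' u' : X} {n : ℕ} (B : Beta D T κ τ u n) (L : Loc D T)
    (h : EPPO X) (B' : Beta D' T κ' τ' u' n) (L' : Loc D' T) (ne : D' ≠ D) : D ≤ Z1 2 D := by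
  obtain ⟨b, b1, b2⟩ : ∃ b ∈ Z1 2 D', b ∉ Z1 2 D := by
    by_contra e
    push Not at e
    exact ne (by rw [← L.cent_eq h, ← L'.cent_eq h,
      eq_of_le_of_card_ge (show Z1 2 D' ≤ Z1 2 D from e) (by rw [B.cardV, B'.cardV])])
  exact B.key L h (L'.le b1.1) (z1_sq b1) (fun t ht => B'.com t ht b b1) b2

theorem dich_aux (h : EPPO X) (hO : ∀ E : Subgroup X, E.Normal → IsPGroup 2 E → E = ⊥)
    (star : ∀ D T : Subgroup X, Loc D T → TI (Qt D)) : TI X ∨ Config X := by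
  by_contra hc
  push Not at hc
  obtain ⟨nti, ncf⟩ := hc
  have syl : ∀ D T : Subgroup X, Loc D T → SylIn 2 T ⊤ := fun D T L => by
    rcases L.dich h (star D T L) with hJ | ⟨κ, τ, u, n, B⟩
    · exact (L.alpha h star hJ).2
    refine ⟨le_top, L.syl.2.1, fun S _ s1 s2 => ?_⟩
    by_contra e
    obtain ⟨s, s3, s4⟩ := SetLike.exists_of_lt (lt_inf_normalizer s1 (lt_of_le_of_ne s2 (Ne.symm e)))
    obtain ⟨k, k1, k2⟩ := exists_sq_mem (pe_of_mem s1 s3.1) s4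
    have g1 := pow_mem s3 k
    generalize s ^ k = g at *
    have g2 : g ∉ normalizer (D : Set X) := fun e => k1 (L.syl.2.2 (S ⊓ normalizer (D : Set X))
      inf_le_right s1.to_inf_left (le_inf s2 L.syl.1) ▸ ⟨g1.1, e⟩)
    obtain ⟨v, v1, v2⟩ : ∃ v ∈ Z1 2 D, g * v * g⁻¹ ∉ Z1 2 D := by
      by_contra e
      push Not at e
      exact g2 (L.norm_le h e)
    refine ncf ⟨D, T, κ, τ, u, n, L, B, B.key L h (nconj g1.2 (L.le v1.1)) (by
      rw [conj_mul, z1_sq v1]; simp) (fun t ht => ?_) v2, Or.inl ⟨g, g1.2, k2, g2⟩⟩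
    convert z1_conj g1.2 (B.com _ (nconj' g1.2 ht) v v1) using 1
    group
  have uniq : ∀ D D' T : Subgroup X, Loc D T → Loc D' T → D' = D := fun D D' T L L' => by
    by_contra ne
    rcases L.dich h (star D T L) with hJ | ⟨κ, τ, u, n, B⟩ <;>
      rcases L'.dich h (star D' T L') with hJ' | ⟨κ', τ', u', n', B'⟩
    · have e := (L.alpha h star hJ).1.trans (L'.alpha h star hJ').1.symm
      exact ne (le_antisymm (L.max _ L'.pg (e ▸ le_normalizer) e.le)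
        (L'.max _ L.pg (e ▸ le_normalizer) e.ge))
    · exact L.not_alpha h (star _ _ L) L' B' hJ
    · exact L'.not_alpha h (star _ _ L') L B hJ'
    obtain rfl : n = n' := Nat.pow_right_injective le_rfl (B.cardZ.symm.trans B'.cardZ)
    exact ncf ⟨D, T, κ, τ, u, n, L, B, B.two L h B' L' ne, Or.inr ⟨syl _ _ L, D', κ', τ', u', L', B',
      B'.two L' h B L (Ne.symm ne), ne⟩⟩
  simp only [TI, not_forall] at nti
  obtain ⟨P, Q, x, x1, x2, x3, ne⟩ := nti
  obtain ⟨D, T, -, S, -, L, -, t1, -, -⟩ := max_pair Eq eq_equivalence ne x1 x2 x3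
  obtain rfl : T = S := ((syl _ _ L).2.2 S le_top S.isPGroup' t1).symm
  have nS : normalizer ((S : Subgroup X) : Set X) ≤ normalizer (D : Set X) := by
    rcases L.dich h (star D _ L) with hJ | ⟨κ, τ, u, n, B⟩
    · exact (L.alpha h star hJ).1 ▸ normalizer_le_JJ _
    · exact B.norm_le L h (syl _ _ L)
  set Y := normalizer (D : Set X)
  have inv : ∀ g ∈ Y, ∀ P : Sylow 2 X, (P : Subgroup X) ≤ Y → ((g • P : Sylow 2 X) : Subgroup X) ≤ Y :=
    fun g hg P hP x hx => by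
      have := mul_mem (mul_mem hg (hP ((H3.mem_sylow_smul P g x).1 hx))) (inv_mem hg)
      simpa [mul_assoc] using this
  have un : ∀ (g : X) (P : Sylow 2 X), (P : Subgroup X) ≤ Y → ((g • P : Sylow 2 X) : Subgroup X) ≤ Y → g ∈ Y :=
    fun g P h1 h2 => by
      obtain ⟨a, a1, rfl⟩ := H3.sylow_conj_in S P Y L.syl.1 h1
      obtain ⟨b, b1, b2⟩ := H3.sylow_conj_in S _ Y L.syl.1 h2
      have := nS (Sylow.smul_eq_iff_mem_normalizer.1 (show (b⁻¹ * g * a) • S = S by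
        rw [mul_smul, mul_smul, ← b2, inv_smul_smul]))
      simpa [mul_assoc] using mul_mem (mul_mem b1 this) (inv_mem a1)
  have hρ : Equivalence fun P Q : Sylow 2 X => ∃ g : X, ((g • P : Sylow 2 X) : Subgroup X) ≤ Y ∧
      ((g • Q : Sylow 2 X) : Subgroup X) ≤ Y := by
    refine ⟨fun P => ?_, fun ⟨g, a, b⟩ => ⟨g, b, a⟩, fun ⟨g, a, b⟩ ⟨g', c, d⟩ => ⟨g', ?_, d⟩⟩
    · obtain ⟨g, hg⟩ := MulAction.exists_smul_eq X P S
      exact ⟨g, hg ▸ L.syl.1, hg ▸ L.syl.1⟩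
    · simpa [← mul_smul] using inv _ (un (g' * g⁻¹) _ b (by rwa [← mul_smul, inv_mul_cancel_right])) _ a
  have ex : ∀ i : X, Iv i → i ∈ Y → ∃ m ∈ Y, i ∈ m • S := fun i i1 i2 => by
    obtain ⟨R, r1, r2⟩ := exists_sylIn (isPGroup_of_pe (p := 2) (P := zpowers i) fun x hx => by
      obtain ⟨k, rfl⟩ := mem_powers_iff_mem_zpowers.2 hx
      exact (pe_of_sq i1.1).pow k) (zpowers_le.2 i2)
    obtain ⟨m, m1, m2⟩ := L.syl.conj r1
    exact ⟨m, m1, (H3.mem_sylow_smul S m i).2 ((m2 i).1 (r2 (mem_zpowers i)))⟩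
  obtain ⟨i, i1, i2, i3⟩ := L.exists_i h (star _ _ L)
  refine strong_emb hO L.pg L.ne i1 i2 i3 fun g i i1 i2 i3 => ?_
  obtain ⟨a, a1, a2⟩ := ex i i1 i2
  obtain ⟨b, b1, b2⟩ := ex _ (i1.conj g) i3
  by_contra hg
  obtain ⟨D', T, T', P, Q, L1, L2, t1, t2, nr⟩ := max_pair _ hρ (P := g • a • S) (Q := b • S) (by
    rintro ⟨k, k1, k2⟩
    rw [← mul_smul, ← mul_smul] at k1
    rw [← mul_smul] at k2
    have := mul_mem (mul_mem b1 (inv_mem (un _ _ L.syl.1 k2))) (mul_mem (un _ _ L.syl.1 k1) (inv_mem a1))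
    exact hg (by simpa [mul_assoc] using this)) (conj_mem_smul a2 g) b2 (i1.conj g).2
  obtain rfl : T = P := ((syl _ _ L1).2.2 P le_top P.isPGroup' t1).symm
  obtain rfl : T' = Q := ((syl _ _ L2).2.2 Q le_top Q.isPGroup' t2).symm
  obtain ⟨k, hk⟩ := MulAction.exists_smul_eq X P S
  have L3 : Loc _ ((k • P : Sylow 2 X) : Subgroup X) := L1.conj (MulAut.conj k)
  have L4 : Loc _ ((k • Q : Sylow 2 X) : Subgroup X) := L2.conj (MulAut.conj k)
  rw [hk] at L3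
  rw [uniq _ _ _ L L3] at L4
  exact nr ⟨k, hk ▸ L.syl.1, L4.syl.1⟩

theorem dichotomy (n : ℕ) : ∀ (X : Type u) [Group X] [Finite X], Nat.card X = n → EPPO X →
    (∀ E : Subgroup X, E.Normal → IsPGroup 2 E → E = ⊥) → TI X ∨ Config X := by
  induction n using Nat.strong_induction_on with
  | _ n ih =>
  intro X _ _ hn h hO
  exact dich_aux h hO fun D T L =>
    (ih _ (hn ▸ card_Qt_lt L.ne) (Qt D) rfl (h.qt D) L.qt_core).resolve_right (L.not_config h)

end Cfsg.Agent.L0.EP
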