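import Cfsg.Agent.L0.EP.A1
import Cfsg.Agent.S2202
import Cfsg.Agent.H2.SL2Syl

/-! The trivial-intersection case: order of the group and abelian Sylow subgroups. -/

set_option autoImplicit false
set_option linter.unusedSectionVars false
set_option linter.unusedVariables false

namespace Cfsg.Agent.L0.EP

open Subgroup H3.BSW
open scoped MatrixGroups

variable {G : Type*} [Group G] [Finite G]

theorem comm_top [IsSimpleGroup G] (hG : ¬ IsMulCommutative G) : _root_.commutator G = ⊤ :=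
  (IsSimpleGroup.eq_bot_or_eq_top_of_normal _ inferInstance).resolve_left fun e =>
    hG ⟨⟨fun a b => mem_center_iff.1 ((commutator_eq_bot_iff_center_eq_top G).1 e ▸ mem_top b) a⟩⟩

theorem not_pgroup [IsSimpleGroup G] (hG : ¬ IsMulCommutative G) {p : ℕ} (hp : p.Prime)
    {P : Subgroup G} (hP : IsPGroup p P) (hn : P.Normal) : P = ⊥ := by
  have := Fact.mk hp
  refine (IsSimpleGroup.eq_bot_or_eq_top_of_normal P hn).resolve_right fun e => ?_
  subst e
  have := (hP.of_equiv topEquiv).isNilpotent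
  exact (Group.IsSolvable.commutator_lt_top_of_nontrivial G).ne (comm_top hG)

theorem focal_eq [IsSimpleGroup G] (hG : ¬ IsMulCommutative G) {p : ℕ} [Fact p.Prime] (P : Sylow p G)
    {M : Subgroup G} (h : ∀ x ∈ P, ∀ g : G, g * x * g⁻¹ ∈ P → x * (g * x * g⁻¹)⁻¹ ∈ M) :
    (P : Subgroup G) ≤ M := by
  have := commutator_inf_eq_focalSubgroup P
  rw [comm_top hG, top_inf_eq] at this
  rw [this, focalSubgroup_def, closure_le]
  rintro _ ⟨h1, x, h2, g, rfl⟩
  have := h x h2 g (by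
    have := mul_mem (inv_mem h1) h2
    rwa [commutatorElement_def, show (x * g * x⁻¹ * g⁻¹)⁻¹ * x = g * x * g⁻¹ by group] at this)
  rwa [commutatorElement_def, SetLike.mem_coe, show x * g * x⁻¹ * g⁻¹ = x * (g * x * g⁻¹)⁻¹ by group]

theorem not_le_comm {p : ℕ} (hp : p.Prime) {P : Subgroup G} (hP : IsPGroup p P) (h0 : P ≠ ⊥) :
    ¬ P ≤ ⁅P, P⁆ := fun e => by
  have := Fact.mk hp
  have := hP.isNilpotent
  have := (nontrivial_iff_ne_bot P).2 h0
  refine (Group.IsSolvable.commutator_lt_top_of_nontrivial P).not_ge fun x _ => ?_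
  obtain ⟨y, h1, h2⟩ := map_subtype_commutator P ▸ e x.2
  exact Subtype.ext h2 ▸ h1

theorem ti_zs [IsSimpleGroup G] (hG : ¬ IsMulCommutative G) (h : EPPO G) (ti : TI G)
    (he : Even (Nat.card G)) : ∃ (S : Sylow 2 G) (κ τ u a : G) (n : ℕ), ZS S κ τ u a n := by
  obtain ⟨S⟩ : Nonempty (Sylow 2 G) := inferInstance
  have h0 : (S : Subgroup G) ≠ ⊥ := S.ne_bot_of_dvd_card he.two_dvd
  obtain ⟨t, t1, t2, -⟩ := exists_central_iv S.isPGroup' h0
  obtain ⟨g, hg⟩ : ∃ g : G, g • S ≠ S := by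
    by_contra e
    push Not at e
    exact h0 (not_pgroup hG Nat.prime_two S.isPGroup' ⟨fun x hx g => conj_mem_of_fix hx (e g)⟩)
  refine ⟨S, ?_⟩
  by_cases e : ∃ t' ∈ S, Iv t' ∧ t ≠ t'
  · obtain ⟨t', s1, s2, s3⟩ := e
    exact exists_ZS h ti S hg.symm t2 s2 t1 s1 s3
  push Not at e
  refine (not_le_comm Nat.prime_two S.isPGroup' h0 (focal_eq hG S fun x hx g hg => ?_)).elim
  by_cases x1 : x = 1
  · simp [x1]
  have e1 := ti _ _ _ (conj_mem_smul hx g) hg (by simpa using x1)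
  have e2 := cent_mem h ti t1 t2.2 (comm_of_conj (e _ (conj_mem_of_fix t1 e1) (t2.conj g)).symm)
  have := commutator_mem_commutator hx e2
  rw [commutatorElement_def] at this
  convert this using 1
  group

theorem burn [IsSimpleGroup G] (hG : ¬ IsMulCommutative G) (h : EPPO G) {p M : ℕ} (hp : p.Prime)
    (hc : Nat.card G = p * M) (hM : M % p = 1) : False := by
  have := Fact.mk hp
  obtain ⟨P⟩ : Nonempty (Sylow p G) := inferInstance
  have hM' : ¬ p ∣ M := fun e => by
    rw [Nat.mod_eq_zero_of_dvd e] at hM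
    exact zero_ne_one hM
  have M0 : M ≠ 0 := fun e => hM' (e ▸ dvd_zero p)
  have cP : Nat.card P = p := by
    rw [Sylow.card_eq_multiplicity, hc, Nat.factorization_mul hp.ne_zero M0, hp.factorization,
      Finsupp.add_apply, Nat.factorization_eq_zero_of_not_dvd hM']
    simp
  have cy : IsCyclic P := isCyclic_of_prime_card cP
  obtain ⟨⟨z, z1⟩, z2⟩ := ne_bot_iff_exists_ne_one.1 (show (P : Subgroup G) ≠ ⊥ from fun e => by
    rw [e, card_bot] at cP; exact hp.one_lt.ne cP)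
  have cC : centralizer (P : Set G) = (P : Subgroup G) := by
    refine P.is_maximal' (isPGroup_of_pe fun y hy => h.pe_of_comm hp (hy z z1)
      (pe_of_mem P.isPGroup' z1) fun e => z2 (Subtype.ext e)) (P : Subgroup G).le_centralizer
  have h1 := card_dvd_of_injective _ (QuotientGroup.kerLift_injective (P : Subgroup G).normalizerMonoidHom)
  rw [← index, normalizerMonoidHom_ker, cy.card_mulAut, cP, Nat.totient_prime hp] at h1
  change (centralizer (P : Set G)).relIndex _ ∣ _ at h1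
  rw [cC] at h1
  have h2 := relIndex_mul_index (le_normalizer (H := (P : Subgroup G)))
  have h3 := (P : Subgroup G).card_mul_index
  rw [cP, hc, Nat.mul_right_inj hp.ne_zero, ← h2] at h3
  erw [← Sylow.card_eq_index_normalizer] at h3
  have h4 := card_sylow_modEq_one p G
  have h5 := Nat.le_of_dvd (by have := hp.one_lt; omega) h1
  have h6 : (P : Subgroup G).relIndex (normalizer (P : Set G)) = 1 := by
    rw [← h3, Nat.mul_mod, h4, Nat.mod_eq_of_lt hp.one_lt, mul_one, Nat.mod_mod,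
      Nat.mod_eq_of_lt (by have := hp.one_lt; omega)] at hM
    exact hM
  have h7 : normalizer ((P : Subgroup G) : Set G) ≤ centralizer (P : Set G) :=
    (relIndex_eq_one.1 h6).trans cC.ge
  have := (MonoidHom.ker_transferSylow_isComplement' P h7).card_mul_card
  rcases IsSimpleGroup.eq_bot_or_eq_top_of_normal _ (MonoidHom.normal_ker (MonoidHom.transferSylow P h7))
    with e | e <;> rw [e, cP] at this
  · exact hG (isCyclic_of_prime_card (by simpa using this.symm)).isMulCommutative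
  · rw [card_top] at this
    exact hp.one_lt.ne' (Nat.eq_of_mul_eq_mul_left Nat.card_pos (this.trans (mul_one _).symm))

theorem three_pow {m k : ℕ} (hm : 2 ≤ m) (h : 2 ^ m + 1 = 3 ^ k) : m = 3 := by
  obtain ⟨m, rfl⟩ := Nat.exists_eq_add_of_le hm
  rcases Nat.even_or_odd' k with ⟨j, rfl | rfl⟩
  · have h0 : 0 < 3 ^ j := by positivity
    obtain ⟨s, hs⟩ : ∃ s, 3 ^ j = s + 1 := ⟨3 ^ j - 1, by omega⟩
    have h1 : s * (s + 2) = 2 ^ (2 + m) := by
      rw [pow_mul', hs] at h
      nlinarith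
    obtain ⟨a, -, ha⟩ := (Nat.dvd_prime_pow Nat.prime_two).1 (Dvd.intro _ h1)
    obtain ⟨b, -, hb⟩ := (Nat.dvd_prime_pow Nat.prime_two).1 (Dvd.intro_left _ h1)
    have : s = 2 := by
      have := ha ▸ Nat.two_pow_pos a
      rcases a with _ | _ | a <;> rcases b with _ | _ | b <;> simp only [pow_succ, pow_zero] at ha hb <;> omega
    rw [this] at h1
    exact Nat.pow_right_injective le_rfl (show 2 ^ (2 + m) = 2 ^ 3 from h1.symm)
  · have := congrArg (· % 4) h
    simp only [pow_add, pow_mul] at this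
    rw [Nat.mul_mod (_ ^ j), Nat.pow_mod] at this
    simp at this

theorem sl2_card {F : Type*} [Field F] [Fintype F] [CharP F 2] (h : EPPO SL(2, F)) :
    Nat.card F = 2 ∨ Nat.card F = 4 ∨ Nat.card F = 8 := by
  obtain ⟨⟨m, m0⟩, -, hm⟩ := FiniteField.card F 2
  rw [← Nat.card_eq_fintype_card] at hm
  simp only [PNat.mk_coe] at hm
  rcases Nat.lt_or_ge m 2 with m2 | m2
  · obtain rfl : m = 1 := by omega
    exact Or.inl hm
  have h3 : ¬ 3 ∣ Nat.card F := fun e => by
    have := (Nat.prime_dvd_prime_iff_eq Nat.prime_three Nat.prime_two).1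
      (Nat.prime_three.dvd_of_dvd_pow (hm ▸ e))
    omega
  have := Fact.mk Nat.prime_three
  obtain ⟨z, hz⟩ := exists_prime_orderOf_dvd_card' (G := SL(2, F)) 3 (by
    rw [H2.card_SL2']
    rcases (by omega : 3 ∣ Nat.card F - 1 ∨ 3 ∣ Nat.card F + 1) with e | e
    · exact (e.mul_left _).mul_right _
    · exact e.mul_left _)
  obtain ⟨k, hk⟩ := IsPGroup.iff_card.1 (isPGroup_of_pe (p := 3) (P := H2.Cen z) fun y hy =>
    h.pe_of_comm Nat.prime_three (H2.mem_Cen.1 hy).symm ⟨1, by rw [pow_one, ← hz, pow_orderOf_eq_one]⟩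
      fun e => by simp [e] at hz)
  rcases (H2.SS_of_orderOf Nat.prime_three (by decide) hz h3).card_Cen with ⟨-, e⟩ | ⟨-, e⟩ <;>
    rw [hk, hm] at e
  · have := mersenne_pow m2 Nat.prime_three e.symm
    omega
  · rw [hm, three_pow m2 e.symm]
    simp

theorem abel_case [IsSimpleGroup G] (hG : ¬ IsMulCommutative G) (h : EPPO G) (ti : TI G)
    (he : Even (Nat.card G)) (S : Sylow 2 G) (hc : ¬ IsCyclic S) (ab : ∀ x ∈ S, ∀ y ∈ S, x * y = y * x) :
    ∃ (F : Type) (_ : Field F) (_ : Fintype F), Fintype.card F ∈ ({4, 7, 8, 17} : Finset ℕ) ∧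
      Nonempty (G ≃* Matrix.ProjectiveSpecialLinearGroup (Fin 2) F) := by
  have key : ∀ t : G, orderOf t = 2 → IsMulCommutative (centralizer ({t} : Set G)) := by
    refine fun t ht => ⟨⟨fun x y => Subtype.ext ?_⟩⟩
    have t1 : t * t = 1 := by rw [← pow_two, ← ht, pow_orderOf_eq_one]
    obtain ⟨P, hP⟩ := (isPGroup_of_pe (p := 2) (P := zpowers t) fun x hx => by
      obtain ⟨k, rfl⟩ := mem_powers_iff_mem_zpowers.2 hx
      exact (pe_of_sq t1).pow k).exists_le_sylow
    obtain ⟨g, rfl⟩ := MulAction.exists_smul_eq G S P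
    have c : ∀ x : centralizer {t}, g⁻¹ * x * g ∈ S := fun x => (H3.mem_sylow_smul S g _).1
      (cent_mem h ti (hP (mem_zpowers t)) (fun e => by simp [e] at ht) (mem_centralizer_singleton_iff.1 x.2))
    have := ab _ (c x) _ (c y)
    simp only [← mul_assoc, mul_inv_cancel_right, mul_left_inj] at this
    simpa [mul_assoc] using this
  rcases S2202.result he key with e | e | e
  · exact absurd (e S) hc
  · exact absurd (not_pgroup hG Nat.prime_two S.isPGroup' (e S)) (S.ne_bot_of_dvd_card he.two_dvd)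
  obtain ⟨F, _, _, A, _, _, _, -, ⟨e⟩⟩ := e
  have : Subsingleton A := by
    rcases IsSimpleGroup.eq_bot_or_eq_top_of_normal _ ((MonoidHom.snd _ A).comp e.toMonoidHom).normal_ker with h | h
    · exact absurd ⟨⟨fun x y => (MonoidHom.ker_eq_bot_iff _).1 h (by simp [mul_comm])⟩⟩ hG
    · refine subsingleton_of_forall_eq 1 fun x => ?_
      have := mem_top (e.symm (1, x))
      rw [← h] at this
      simpa [mem_prod] using this
  have := uniqueOfSubsingleton (1 : A)
  have e' := e.trans MulEquiv.prodUnique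
  refine ⟨F, inferInstance, inferInstance, ?_, ⟨e'.trans (QuotientGroup.quotientBot.symm.trans
    (QuotientGroup.quotientMulEquivOfEq (H2.center_eq_bot_of_eq (CharTwo.two_eq_zero)).symm))⟩⟩
  rw [← Nat.card_eq_fintype_card]
  rcases sl2_card (h.of_inj e'.symm.toMonoidHom e'.symm.injective) with h2 | h2 | h2
  · refine (burn hG h (M := 3) Nat.prime_two ?_ rfl).elim
    rw [Nat.card_congr e'.toEquiv, H2.card_SL2', h2]
  all_goals rw [h2]; simp

namespace ZS

variable {S : Sylow 2 G} {κ τ u a : G} {n : ℕ} (Z : ZS S κ τ u a n) (h : EPPO G) (ti : TI G)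
include Z

theorem oddr : Odd (2 ^ n - 1) := Nat.Even.sub_odd Nat.one_le_two_pow
  (Nat.even_pow.2 ⟨even_two, by have := Z.two; omega⟩) odd_one

theorem oddk : Odd (orderOf κ) := Z.ord ▸ Z.oddr

theorem pnorm (i : ℕ) : κ ^ i • S = S := pow_mem (show κ ∈ MulAction.stabilizer G S from Z.norm) i

theorem pinv (i : ℕ) : τ * κ ^ i * τ⁻¹ = (κ ^ i)⁻¹ := inv_pow_conj Z.inv i

theorem pfix (i : ℕ) : κ ^ i • τ • S = τ • S := by
  rw [← mul_smul, show κ ^ i * τ = τ * (τ * κ ^ i * τ⁻¹) by rw [Z.iv.inv, ← mul_assoc, ← mul_assoc, Z.iv.1, one_mul],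
    Z.pinv, mul_smul, inv_smul_eq_iff.2 (Z.pnorm i).symm]

theorem not_cyc : ¬ IsCyclic S := fun hc => by
  classical
  have := Fintype.ofFinite S
  have h1 := hc.card_pow_eq_one_le (n := 2) two_pos
  have h2 : Nat.card {t : G // t ∈ S ∧ t * t = 1} ≤ Fintype.card {t : S // t ^ 2 = 1} := by
    rw [← Nat.card_eq_fintype_card]
    exact Nat.card_le_card_of_injective (fun t => ⟨⟨t.1, t.2.1⟩, Subtype.ext (by simpa [pow_two] using t.2.2)⟩)
      fun a b e => Subtype.ext (congrArg (·.1.1) e)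
  rw [Z.cardO, Fintype.card_subtype] at h2
  have := (Nat.pow_le_pow_right two_pos Z.two).trans h2
  refine absurd (this.trans (le_of_eq_of_le ?_ h1)) (by decide : ¬ 2 ^ 2 ≤ 2)
  congr

include h ti

theorem fpf {i : ℕ} {s : G} (hs : s ∈ S) (hc : Commute s (κ ^ i)) (h1 : κ ^ i ≠ 1) : s = 1 :=
  h.fpf hc (pe_of_mem S.isPGroup' hs) (odd_pow Z.oddk i) h1

theorem free {s : G} (hs : s ∈ S) (e : s • τ • S = τ • S) : s = 1 := by
  by_contra h1
  exact Z.ne (ti _ _ s (mem_of_smul_eq (pe_of_mem S.isPGroup' hs) e) hs h1)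

theorem pt_inj {s s' : G} (hs : s ∈ S) (hs' : s' ∈ S) (e : s • τ • S = s' • τ • S) : s = s' :=
  (inv_mul_eq_one.1 (Z.free h ti (mul_mem (inv_mem hs') hs) (by rw [mul_smul, e, inv_smul_smul]))).symm

omit h ti in
theorem pt_ne {s : G} (hs : s ∈ S) : s • τ • S ≠ S := fun e =>
  Z.ne (by rw [← inv_smul_smul s (τ • S), e, smul_eq_of_mem (inv_mem hs)])

theorem card : Nat.card G = (Nat.card S + 1) * (Nat.card S * (2 ^ n - 1)) := by
  have h1 : Nat.card (Option S) = Nat.card (Sylow 2 G) := by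
    refine Nat.card_eq_of_bijective (fun o => o.elim S fun s => (s : G) • τ • S) ⟨?_, fun P => ?_⟩
    · rintro (_ | s) (_ | s') e
      · rfl
      · exact absurd e.symm (Z.pt_ne s'.2)
      · exact absurd e (Z.pt_ne s.2)
      · exact congrArg some (Subtype.ext (Z.pt_inj h ti s.2 s'.2 e))
    · by_cases e : P = S
      · exact ⟨none, e.symm⟩
      · obtain ⟨s, s1, s2⟩ := Z.pts P e
        exact ⟨some ⟨s, s1⟩, s2⟩
  have h2 : Nat.card (S × zpowers κ) = Nat.card (MulAction.stabilizer G S) := by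
    have k1 : ∀ k : zpowers κ, ∃ i : ℕ, κ ^ i = k := fun k => mem_powers_iff_mem_zpowers.2 k.2
    refine Nat.card_eq_of_bijective (fun o => ⟨o.1 * o.2, mul_mem (smul_eq_of_mem o.1.2)
      (by obtain ⟨i, hi⟩ := k1 o.2; exact hi ▸ Z.pnorm i)⟩) ⟨fun x y e => ?_, fun g => ?_⟩
    · have e1 : (y.1 : G)⁻¹ * x.1 = y.2 * (x.2 : G)⁻¹ := by
        rw [inv_mul_eq_iff_eq_mul, ← mul_assoc, eq_mul_inv_iff_mul_eq]
        exact congrArg Subtype.val e
      obtain ⟨i, hi⟩ := k1 (y.2 * x.2⁻¹)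
      have e2 := (pe_of_mem S.isPGroup' (mul_mem (inv_mem y.1.2) x.1.2)).eq_one
        (by rw [e1, show (y.2 : G) * (x.2 : G)⁻¹ = κ ^ i from hi.symm]; exact odd_pow Z.oddk i)
      exact Prod.ext (Subtype.ext (inv_mul_eq_one.1 e2).symm)
        (Subtype.ext (mul_inv_eq_one.1 (e1 ▸ e2)).symm)
    · obtain ⟨s, s1, i, hi⟩ := Z.stab g g.2
      exact ⟨(⟨s, s1⟩, ⟨_, pow_mem (mem_zpowers κ) i⟩), Subtype.ext hi.symm⟩
  rw [← (MulAction.stabilizer G S).index_mul_card, MulAction.index_stabilizer_of_transitive, ← h1, ← h2,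
    Finite.card_option, Nat.card_prod, Nat.card_zpowers, Z.ord]

end ZS

end Cfsg.Agent.L0.EP
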