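import Cfsg.Agent.L0.EP.C0

/-! The trivial-intersection case: Sylow subgroups of order `q ^ 3` do not occur. -/

set_option autoImplicit false
set_option linter.unusedSectionVars false
set_option linter.unusedVariables false

namespace Cfsg.Agent.L0.EP

open Subgroup H3.BSW

variable {G : Type*} [Group G] [Finite G]

theorem PE.conj_mem {p : ℕ} [Fact p.Prime] {x : G} (hx : PE p x) (P : Sylow p G) :
    ∃ g, g⁻¹ * x * g ∈ P := by
  obtain ⟨Q, hQ⟩ := (isPGroup_of_pe (p := p) (P := zpowers x) fun y hy => by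
    obtain ⟨k, rfl⟩ := mem_powers_iff_mem_zpowers.2 hy
    exact hx.pow k).exists_le_sylow
  obtain ⟨g, rfl⟩ := MulAction.exists_smul_eq G P Q
  exact ⟨g, (H3.mem_sylow_smul P g _).1 (hQ (mem_zpowers x))⟩

theorem two_mul_card_lt {ι : Type*} [Finite ι] {p : ℕ} (hp : p.Prime) (x : ι → G) (h1 : ∀ i, PE p (x i))
    (h2 : ∀ i j, IsConj (x i) (x j) → i = j) (h3 : ∀ i, IsConj (x i) (x i)⁻¹) (h4 : ∀ i, x i * x i ≠ 1) :
    2 * Nat.card ι + 1 ≤ p ^ (Nat.card G).factorization p := by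
  have := Fact.mk hp
  obtain ⟨P⟩ : Nonempty (Sylow p G) := inferInstance
  choose g hg using fun i => (h1 i).conj_mem P
  let y : ι → P := fun i => ⟨_, hg i⟩
  have c : ∀ i, IsConj (x i) (y i) := fun i => isConj_iff.2 ⟨(g i)⁻¹, by simp [y]⟩
  have c' : ∀ i, IsConj (x i) (y i)⁻¹ := fun i => (h3 i).trans (isConj_iff.2 ⟨(g i)⁻¹, by simp [y, mul_assoc]⟩)
  have n1 : ∀ i, y i * y i ≠ 1 := fun i e => h4 i (by
    have : (g i)⁻¹ * x i * g i * ((g i)⁻¹ * x i * g i) = 1 := congrArg Subtype.val e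
    rwa [show (g i)⁻¹ * x i * g i * ((g i)⁻¹ * x i * g i) = (g i)⁻¹ * (x i * x i) * (g i)⁻¹⁻¹ by group,
      conj_eq_one_iff] at this)
  have := Nat.card_le_card_of_injective (fun o : Option (ι ⊕ ι) => o.elim 1 (Sum.elim y fun i => (y i)⁻¹)) (by
    rintro (_ | i | i) (_ | j | j) e <;> simp only [Option.elim, Sum.elim_inl, Sum.elim_inr] at e
    · rfl
    · exact absurd (by rw [← e, one_mul]) (n1 j)
    · exact absurd (by rw [inv_eq_one.1 e.symm, one_mul]) (n1 j)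
    · exact absurd (by rw [e, one_mul]) (n1 i)
    · rw [h2 i j ((c i).trans (e ▸ (c j).symm))]
    · obtain rfl := h2 i j ((c i).trans (e ▸ (c' j).symm))
      exact absurd (mul_eq_one_iff_eq_inv.2 e) (n1 i)
    · exact absurd (by rw [inv_eq_one.1 e, one_mul]) (n1 i)
    · obtain rfl := h2 i j ((c' i).trans (by rw [← coe_inv, e]; exact (c j).symm))
      exact absurd (mul_eq_one_iff_eq_inv.2 e.symm) (n1 i)
    · rw [h2 i j ((c i).trans (inv_injective e ▸ (c j).symm))])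
  rw [Finite.card_option, Nat.card_sum, ← two_mul] at this
  exact this.trans_eq P.card_eq_multiplicity

theorem sum_le_prod (s : Finset ℕ) (k c : ℕ → ℕ) (h : ∀ p ∈ s, k p + 1 ≤ c p) :
    ∑ p ∈ s, k p + 1 ≤ ∏ p ∈ s, c p := by
  induction s using Finset.induction_on with
  | empty => simp
  | insert a s ha ih =>
    rw [Finset.sum_insert ha, Finset.prod_insert ha]
    have := Nat.mul_le_mul (h a (by simp)) (ih fun p hp => h p (by simp [hp]))
    nlinarith [Nat.zero_le (k a * ∑ p ∈ s, k p)]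

theorem arith {v N : ℕ} (cG : N = ((3 * v + 2) ^ 3 + 1) * ((3 * v + 2) ^ 3 * (3 * v + 1))) (v2 : v % 2 = 0)
    (v0 : 0 < v) (pr : (3 * v + 1).Prime) (f : ℕ → ℕ) (f1 : ∀ i, (f i).Prime)
    (f2 : ∀ i, f i = 3 * v + 1 ∨ f i ∣ 3 * v + 2 + 1)
    (a1 : ∀ p, p.Prime → 2 * ((Finset.range (3 * v + 1)).filter fun i => f i = p).card + 1 ≤
      p ^ N.factorization p) : ∃ j, 3 * v + 2 + 1 = 3 ^ j := by
  have a2 : ∀ p A B, p.Prime → N = A * B → ¬ p ∣ B → p ^ N.factorization p ∣ A := fun p A B hp e h =>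
    ((hp.coprime_iff_not_dvd.2 h).pow_left _).dvd_mul_right.1 (e ▸ Nat.ordProj_dvd _ p)
  have a3 := Finset.card_eq_sum_card_fiberwise (s := Finset.range (3 * v + 1)) (f := f)
    (t := insert (3 * v + 1) (insert 3 ((v + 1).primeFactors.erase 3))) fun i _ => by
      simp only [Finset.coe_insert, Set.mem_insert_iff, Finset.mem_coe, Finset.mem_erase, Nat.mem_primeFactors]
      refine (f2 i).imp_right fun e => or_iff_not_imp_left.2 fun e' => ⟨e', f1 i, ?_, by omega⟩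
      exact ((f1 i).dvd_mul.1 (show f i ∣ 3 * (v + 1) from e)).resolve_left fun e =>
        e' ((Nat.prime_dvd_prime_iff_eq (f1 i) Nat.prime_three).1 e)
  rw [Finset.sum_insert (by
    simp only [Finset.mem_insert, Finset.mem_erase, Nat.mem_primeFactors, not_or]
    exact ⟨by omega, fun e => by have := Nat.le_of_dvd (by omega) e.2.2.1; omega⟩), Finset.sum_insert (by simp),
    Finset.card_range] at a3
  have a4 := sum_le_prod ((v + 1).primeFactors.erase 3) _ _ fun p hp =>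
    a1 p (Nat.prime_of_mem_primeFactors (Finset.mem_of_mem_erase hp))
  rw [← Finset.mul_sum] at a4
  have a5 : ∏ p ∈ (v + 1).primeFactors.erase 3, p ^ N.factorization p ∣ v + 1 := by
    refine Finset.prod_dvd_of_isRelPrime (fun p hp q hq e => Nat.coprime_iff_isRelPrime.1 (Nat.coprime_pow_primes _ _
      (Nat.prime_of_mem_primeFactors (Finset.mem_of_mem_erase hp))
      (Nat.prime_of_mem_primeFactors (Finset.mem_of_mem_erase hq)) e)) fun p hp => ?_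
    obtain ⟨p3, p1, p2, -⟩ := by simpa only [Finset.mem_erase, Nat.mem_primeFactors] using hp
    refine a2 p _ (3 ^ 2 * (3 * v * (v + 1) + 1) * ((3 * v + 2) ^ 3 * (3 * v + 1))) p1 (by rw [cG]; ring) ?_
    simp only [p1.dvd_mul, not_or]
    have p4 : p ∣ 3 * (v + 1) := p2.mul_left 3
    refine ⟨⟨fun e => p3 ((Nat.prime_dvd_prime_iff_eq p1 Nat.prime_three).1 (p1.dvd_of_dvd_pow e)),
      fun e => p1.not_dvd_one ((Nat.dvd_add_right (p2.mul_left _)).1 e)⟩,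
      fun e => p1.not_dvd_one ((Nat.dvd_add_right (p1.dvd_of_dvd_pow e)).1 p4), fun e => ?_⟩
    obtain rfl := (Nat.prime_dvd_prime_iff_eq p1 Nat.prime_two).1 ((Nat.dvd_add_right e).1 p4)
    omega
  obtain ⟨d, hd⟩ := a2 3 (9 * (v + 1)) ((3 * (v * (v + 1)) + 1) * ((3 * v + 2) ^ 3 * (3 * v + 1)))
    Nat.prime_three (by rw [cG]; ring) (by
      simp only [Nat.prime_three.dvd_mul, not_or]
      exact ⟨by omega, fun e => by have := Nat.prime_three.dvd_of_dvd_pow e; omega, by omega⟩)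
  have a7 := a2 (3 * v + 1) (3 * v + 1) (((3 * v + 2) ^ 3 + 1) * (3 * v + 2) ^ 3) pr (by rw [cG]; ring) (by
    simp only [pr.dvd_mul, not_or]
    refine ⟨fun e => ?_, fun e => pr.not_dvd_one ((Nat.dvd_add_right dvd_rfl).1 (pr.dvd_of_dvd_pow e))⟩
    rw [show (3 * v + 2) ^ 3 + 1 = (3 * v + 1) * ((3 * v + 1) ^ 2 + 3 * (3 * v + 1) + 3) + 2 by ring] at e
    have := Nat.le_of_dvd two_pos ((Nat.dvd_add_right (dvd_mul_right _ _)).1 e)
    omega)
  have b1 := a1 _ pr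
  have b2 := a1 _ Nat.prime_three
  have b3 := Nat.le_of_dvd (by omega) a5
  have b4 := Nat.le_of_dvd (by omega) a7
  generalize N.factorization 3 = j at *
  have b5 : 2 * v + 3 ≤ 3 ^ j := by omega
  have d4 : d ≤ 4 := by nlinarith
  rcases j with _ | j
  · omega
  rw [pow_succ] at hd
  interval_cases d
  · omega
  · exact ⟨j, by omega⟩
  · omega
  · exact ⟨j + 1, by rw [pow_succ]; omega⟩
  · omega

theorem EPPO.pow_four (h : EPPO G) (h4 : ∀ g : G, PE 2 g → g ^ 4 = 1) {x g t : G} {q : ℕ}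
    (ho : x * x ≠ 1) (hg : g * x ^ q * g⁻¹ = x) (ht : t * x * t⁻¹ = x⁻¹) : x ^ q ^ 4 = x := by
  have key : ∀ (g : G) (e : ℤ), g⁻¹ * x * g = x ^ e → ∀ m : ℕ, (g ^ m)⁻¹ * x * g ^ m = x ^ e ^ m := fun g e he m => by
    induction m with
    | zero => simp
    | succ m ih =>
      rw [pow_succ, mul_inv_rev, show g⁻¹ * (g ^ m)⁻¹ * x * (g ^ m * g) = g⁻¹ * ((g ^ m)⁻¹ * x * g ^ m) * g⁻¹⁻¹ by group,
        ih, ← conj_zpow, inv_inv, he, ← zpow_mul, pow_succ']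
  have e1 : g⁻¹ * x * g = x ^ (q : ℤ) := by
    rw [zpow_natCast, ← mul_left_inj g⁻¹, ← mul_right_inj g, ← mul_assoc g (x ^ q), hg]; group
  have e2 : (t⁻¹ * g)⁻¹ * x * (t⁻¹ * g) = x ^ (-q : ℤ) := by
    rw [zpow_neg, ← e1, show (t⁻¹ * g)⁻¹ * x * (t⁻¹ * g) = g⁻¹ * (t * x * t⁻¹) * g by group, ht]; group
  rcases h.pe_or_odd g with a | a
  · have := key g _ e1 4
    rw [h4 g a] at this
    exact_mod_cast (by simpa using this.symm : x ^ ((q : ℤ) ^ 4) = x)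
  rcases h.pe_or_odd (t⁻¹ * g) with b | b
  · have := key _ _ e2 4
    rw [h4 _ b, show (-q : ℤ) ^ 4 = q ^ 4 by ring] at this
    exact_mod_cast (by simpa using this.symm : x ^ ((q : ℤ) ^ 4) = x)
  have a1 := key _ _ e1 (orderOf g * orderOf (t⁻¹ * g))
  have b1 := key _ _ e2 (orderOf g * orderOf (t⁻¹ * g))
  rw [pow_mul g, pow_orderOf_eq_one] at a1
  rw [pow_mul' (t⁻¹ * g), pow_orderOf_eq_one, (a.mul b).neg_pow, zpow_neg, ← a1] at b1
  exact absurd (mul_eq_one_iff_eq_inv.2 (by simpa using b1)) ho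

namespace ZS

variable {S : Sylow 2 G} {κ τ u a : G} {n : ℕ} (Z : ZS S κ τ u a n) (h : EPPO G) (ti : TI G)
include Z

theorem tS : τ ∉ S := fun e => Z.ne (smul_eq_of_mem e)

theorem um (i : ℕ) : κ ^ i * u * (κ ^ i)⁻¹ ∈ S := conj_mem_of_fix Z.umem (Z.pnorm i)

theorem tconj (i : ℕ) : τ * (κ ^ i * u * (κ ^ i)⁻¹) * τ⁻¹ =
    (κ ^ i)⁻¹ * a * κ ^ i * ((κ ^ i)⁻¹ * τ * κ ^ i) * ((κ ^ i)⁻¹ * a * κ ^ i)⁻¹ :=
  calc _ = τ * κ ^ i * τ⁻¹ * (τ * u * τ⁻¹) * (τ * κ ^ i * τ⁻¹)⁻¹ := by group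
    _ = _ := by rw [Z.pinv, Z.str]; group

theorem xsq (i : ℕ) : IsConj ((κ ^ i * u * (κ ^ i)⁻¹ * τ) ^ 2) (κ ^ (2 * i) * u * (κ ^ (2 * i))⁻¹ * τ) := by
  rw [two_mul, pow_add]
  have e1 := Z.tconj i
  have e2 := (Z.cent _ (Z.um i) (Z.uiv.conj _).1 _
    (conj_mem_of_fix Z.amem (inv_smul_eq_iff.2 (Z.pnorm i).symm))).eq
  generalize κ ^ i = k at *
  rw [inv_inv] at e2
  refine isConj_iff.2 ⟨k * (k⁻¹ * a * k)⁻¹, ?_⟩
  rw [pow_two, show k * u * k⁻¹ * τ * (k * u * k⁻¹ * τ) = k * u * k⁻¹ * (τ * (k * u * k⁻¹) * τ⁻¹) by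
    rw [Z.iv.inv]; group, e1, ← mul_assoc (k * u * k⁻¹), ← mul_assoc (k * u * k⁻¹), ← e2]
  group

theorem xpow (i m : ℕ) :
    IsConj ((κ ^ i * u * (κ ^ i)⁻¹ * τ) ^ 2 ^ m) (κ ^ (2 ^ m * i) * u * (κ ^ (2 ^ m * i))⁻¹ * τ) := by
  induction m with
  | zero => simp only [pow_zero, pow_one, one_mul, IsConj.refl]
  | succ m ih =>
    rw [pow_succ, pow_mul, mul_comm (2 ^ m), mul_assoc 2]
    exact (ih.pow 2).trans (Z.xsq _)

theorem xinv (i : ℕ) : κ ^ i * u * (κ ^ i)⁻¹ * (κ ^ i * u * (κ ^ i)⁻¹ * τ) * (κ ^ i * u * (κ ^ i)⁻¹)⁻¹ =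
    (κ ^ i * u * (κ ^ i)⁻¹ * τ)⁻¹ := inverts_mul (Z.uiv.conj _) Z.iv

theorem xne (i : ℕ) : κ ^ i * u * (κ ^ i)⁻¹ * τ ≠ 1 := fun e =>
  Z.tS (eq_inv_of_mul_eq_one_right e ▸ inv_mem (Z.um i))

include h ti

theorem xodd (i : ℕ) : Odd (orderOf (κ ^ i * u * (κ ^ i)⁻¹ * τ)) := by
  obtain ⟨g, hg⟩ := (pe_of_sq Z.iv.1).conj_mem S
  have := (H3.mem_sylow_smul S g _).2 hg
  exact odd_mul' h ti (fun e : S = g • S => Z.tS (e ▸ this)) (Z.uiv.conj _) Z.iv (Z.um i) this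

theorem xconj {i j : ℕ} (hc : IsConj (κ ^ i * u * (κ ^ i)⁻¹ * τ) (κ ^ j * u * (κ ^ j)⁻¹ * τ)) :
    κ ^ i = κ ^ j := by
  obtain ⟨g, hg⟩ := isConj_iff.1 hc
  have a1 := Z.xinv i
  have a2 := Z.xinv j
  have o := Z.xodd h ti j
  have n1 := Z.xne j
  have v1 := Z.um i
  have v2 := Z.um j
  have i1 := Z.uiv.conj (κ ^ i)
  have i2 := Z.uiv.conj (κ ^ j)
  suffices e : κ ^ i * u * (κ ^ i)⁻¹ = κ ^ j * u * (κ ^ j)⁻¹ from
    two_eq h ti Z.ne.symm (Z.pnorm i) (Z.pfix i) (Z.pnorm j) (Z.pfix j) Z.uiv e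
  generalize κ ^ i * u * (κ ^ i)⁻¹ = v at *
  generalize κ ^ j * u * (κ ^ j)⁻¹ = w at *
  have c : Commute (w * (g * v * g⁻¹)) (w * τ) := comm_of_conj (by
    calc _ = w * (g * (v * (g⁻¹ * (w * τ) * g) * v⁻¹) * g⁻¹) * w⁻¹ := by group
      _ = w * (w * τ)⁻¹ * w⁻¹ := by rw [← hg, show g⁻¹ * (g * (v * τ) * g⁻¹) * g = v * τ by group, a1]; group
      _ = (w * (w * τ) * w⁻¹)⁻¹ := by group
      _ = _ := by rw [a2, inv_inv])
  have o2 : Odd (orderOf (w * (g * v * g⁻¹))) := by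
    rcases h.pe_or_odd (w * (g * v * g⁻¹)) with e | e
    · simp [h.fpf c e o n1]
    · exact e
  obtain ⟨m, hm⟩ := exists_sqrt o2
  have b1 := inv_pow_conj (inverts_mul i2 (i1.conj g)) m
  have b2 := (c.pow_left m).eq
  generalize (w * (g * v * g⁻¹)) ^ m = y at *
  have b3 : y * g * v * (y * g)⁻¹ = w := by
    calc _ = y * w⁻¹ * (w * (g * v * g⁻¹)) * y⁻¹ := by group
      _ = w⁻¹ * (w * y * w⁻¹) * y := by rw [← hm]; group
      _ = _ := by rw [b1, i2.inv]; group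
  have b4 : y * g * τ * (y * g)⁻¹ = τ := by
    calc _ = (y * g * v * (y * g)⁻¹)⁻¹ * (y * (g * (v * τ) * g⁻¹)) * y⁻¹ := by group
      _ = _ := by rw [b3, hg, b2]; group
  have b5 := mem_of_smul_eq (h.pe_of_comm Nat.prime_two (comm_of_conj b4).symm (pe_of_sq Z.iv.1) Z.iv.2)
    (ti _ _ w (b3 ▸ conj_mem_smul v1 _) v2 i2.2)
  rw [← b3, (Z.cent v v1 i1.1 _ b5).eq, mul_inv_cancel_right]

theorem xord (hc : Nat.card S = (2 ^ n) ^ 3) (h4 : ∀ s ∈ S, s ^ 4 = 1) (i : ℕ)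
    (hr : ¬ PE (2 ^ n - 1) (κ ^ i * u * (κ ^ i)⁻¹ * τ)) : orderOf (κ ^ i * u * (κ ^ i)⁻¹ * τ) ∣ 2 ^ n + 1 := by
  have e := Z.xpow i n
  have e1 : κ ^ (2 ^ n * i) = κ ^ i := by
    rw [pow_mul, ← Nat.sub_add_cancel (Nat.one_le_two_pow (n := n)), pow_succ, ← Z.ord, pow_orderOf_eq_one, one_mul]
  rw [e1] at e
  obtain ⟨g, hg⟩ := isConj_iff.1 e
  have o := Z.xodd h ti i
  have a1 := h.pow_four (fun g hg => by
    obtain ⟨c, hc⟩ := hg.conj_mem S
    have := h4 _ hc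
    rwa [← inv_inv c, inv_inv c⁻¹, conj_pow, conj_eq_one_iff] at this)
    (fun e => Z.xne i (eq_one_of_odd_sq o e)) hg (Z.xinv i)
  have a2 := orderOf_dvd_natCard (κ ^ i * u * (κ ^ i)⁻¹ * τ)
  have a3 := (Nat.Prime.coprime_iff_not_dvd Z.prime).2 fun e => hr (h.pe_of_dvd Z.prime e)
  rw [Z.card h ti, hc] at a2
  generalize κ ^ i * u * (κ ^ i)⁻¹ * τ = x at *
  have a4 := (((((Nat.coprime_two_right.2 o).pow_right n).pow_right 3).mul_right a3.symm).dvd_mul_right).1 a2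
  have a5 : x ^ ((2 ^ n) ^ 4 + 2 ^ n) = 1 := by
    rw [show (2 ^ n) ^ 4 + 2 ^ n = ((2 ^ n) ^ 3 + 1) * 2 ^ n by ring, pow_mul,
      orderOf_dvd_iff_pow_eq_one.1 a4, one_pow]
  rw [pow_add, a1, ← pow_succ'] at a5
  exact orderOf_dvd_of_pow_eq_one a5

theorem not_cube [IsSimpleGroup G] (hG : ¬ IsMulCommutative G) (hc : Nat.card S = (2 ^ n) ^ 3)
    (h4 : ∀ s ∈ S, s ^ 4 = 1) : False := by
  have cG := Z.card h ti
  rw [hc] at cG
  have q0 := Nat.pow_le_pow_right two_pos Z.two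
  have q2 : 2 ∣ 2 ^ n := dvd_pow_self 2 (by have := Z.two; omega)
  have q3 : ¬ 3 ∣ 2 ^ n := fun e => by
    have := (Nat.prime_dvd_prime_iff_eq Nat.prime_three Nat.prime_two).1 (Nat.prime_three.dvd_of_dvd_pow e)
    omega
  by_cases e3 : 3 ∣ 2 ^ n - 1
  · have := (Nat.prime_dvd_prime_iff_eq Nat.prime_three Z.prime).1 e3
    rw [show 2 ^ n = 4 by omega] at cG
    exact burn hG h (p := 5) (M := 2496) (by norm_num) cG rfl
  obtain ⟨v, hv⟩ : ∃ v, 2 ^ n = 3 * v + 2 := ⟨2 ^ n / 3, by omega⟩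
  have hr : 2 ^ n - 1 = 3 * v + 1 := by omega
  have pr := hr ▸ Z.prime
  choose f f1 f2 using fun i => h.exists_pe (κ ^ i * u * (κ ^ i)⁻¹ * τ)
  rw [hr, hv] at cG
  obtain ⟨j, hj⟩ := arith cG (by omega) (by omega) pr f f1 (fun i => or_iff_not_imp_left.2 fun e => by
      have a := (f2 i).dvd (f1 i) (Z.xne i)
      have := a.trans (Z.xord h ti hc h4 i fun e' => e (by
        by_contra e
        obtain ⟨m, hm⟩ := e'
        exact Z.xne i ((f2 i).eq_one_of_coprime hm (((Nat.coprime_primes (f1 i) pr).2 e).pow_right m |> (hr ▸ ·)))))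
      rwa [hv] at this) fun p hp => by
    have := two_mul_card_lt (ι := (Finset.range (3 * v + 1)).filter fun i => f i = p) hp
      (fun i => κ ^ i.1 * u * (κ ^ i.1)⁻¹ * τ) (fun i => by
        obtain ⟨i, hi⟩ := i
        obtain rfl := (Finset.mem_filter.1 hi).2
        exact f2 i)
      (fun i j e => Subtype.ext (pow_injOn_Iio_orderOf
        (by simpa [Z.ord, hr] using (Finset.mem_filter.1 i.2).1)
        (by simpa [Z.ord, hr] using (Finset.mem_filter.1 j.2).1) (Z.xconj h ti e)))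
      (fun i => isConj_iff.2 ⟨_, Z.xinv i⟩) fun i e => Z.xne i (eq_one_of_odd_sq (Z.xodd h ti i) e)
    rwa [Nat.card_eq_fintype_card, Fintype.card_coe] at this
  obtain rfl := three_pow Z.two (hv ▸ hj)
  obtain rfl : v = 2 := by omega
  exact burn hG h (p := 19) (M := 96768) (by norm_num) cG rfl

end ZS

end Cfsg.Agent.L0.EP
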