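import Cfsg.Agent.L0.EP.C1

/-! The trivial-intersection case: the action of the swapping involution in coordinates. -/

set_option autoImplicit false
set_option linter.unusedSectionVars false
set_option linter.unusedVariables false

namespace Cfsg.Agent.L0.EP

open Subgroup H3.BSW

variable {G : Type*} [Group G] {F : Type*} [Field F]

/-- coordinates on a Suzuki `2`-group -/
structure Pm (S : Subgroup G) (κ : G) (θ : F ≃+* F) (μ : F) (e : F → F → G) : Prop where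
  two : CharP F 2
  pr : (Nat.card F - 1).Prime
  th : θ ≠ RingEquiv.refl F
  m0 : μ ≠ 0
  m1 : μ ≠ 1
  m2 : μ * θ μ ≠ 1
  mem : ∀ a b, e a b ∈ S
  mul : ∀ a b c d, e a b * e c d = e (a + c) (b + d + θ a * c)
  inj : ∀ a b c d, e a b = e c d → a = c ∧ b = d
  surj : ∀ s ∈ S, ∃ a b, e a b = s
  conj : ∀ a b, κ * e a b * κ⁻¹ = e (μ * a) (μ * θ μ * b)

theorem gen_pow (pr : (Nat.card F - 1).Prime) {t c : F} (t0 : t ≠ 0) (t1 : t ≠ 1) (c0 : c ≠ 0) :
    ∃ i : ℕ, t ^ i = c := by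
  have := Fact.mk pr
  obtain ⟨i, hi⟩ := mem_powers_of_prime_card (Nat.card_units F) (g := Units.mk0 t t0) (g' := Units.mk0 c c0)
    fun e => t1 (congrArg Units.val e)
  exact ⟨i, by simpa using congrArg Units.val hi⟩

namespace Pm

variable {S : Subgroup G} {κ : G} {θ : F ≃+* F} {μ : F} {e : F → F → G} (P : Pm S κ θ μ e)
include P

theorem fin : Finite F := Nat.finite_of_card_ne_zero (by have := P.pr.two_le; omega)

theorem one : e 0 0 = 1 := by simpa using P.mul 0 0 0 0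

theorem inv (a b : F) : (e a b)⁻¹ = e a (b + θ a * a) := by
  have := P.two
  rw [inv_eq_iff_mul_eq_one, P.mul, ← P.one]
  congr 1 <;> ring_nf <;> simp [CharTwo.two_eq_zero]

theorem conjp (i : ℕ) (a b : F) : κ ^ i * e a b * (κ ^ i)⁻¹ = e (μ ^ i * a) (μ ^ i * θ (μ ^ i) * b) := by
  induction i with
  | zero => simp
  | succ i ih =>
    rw [pow_succ', show κ * κ ^ i * e a b * (κ * κ ^ i)⁻¹ = κ * (κ ^ i * e a b * (κ ^ i)⁻¹) * κ⁻¹ by group, ih,
      P.conj, pow_succ', map_mul]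
    congr 1 <;> ring

theorem g1 {c : F} (h : c * θ c = 1) : c = 1 := by
  by_contra e
  obtain ⟨i, hi⟩ := gen_pow P.pr (left_ne_zero_of_mul_eq_one h) e P.m0
  exact P.m2 (by rw [← hi, map_pow, ← mul_pow, h, one_pow])

theorem g2 {c : F} (h : θ c = c) (h0 : c ≠ 0) : c = 1 := by
  by_contra e
  refine P.th (RingEquiv.ext fun x => ?_)
  by_cases x0 : x = 0
  · simp [x0]
  obtain ⟨i, rfl⟩ := gen_pow P.pr h0 e x0
  rw [map_pow, h]; rfl

theorem inj1 : Function.Injective fun c => c * θ c := fun c d (h : c * θ c = d * θ d) => by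
  by_cases d0 : d = 0
  · simpa [d0] using h
  have := (map_ne_zero θ).2 d0
  exact (div_eq_one_iff_eq d0).1 (P.g1 (by rw [map_div₀]; field_simp; exact h))

theorem surj1 (z : F) : ∃ c, c * θ c = z := by
  have := P.fin
  exact Finite.injective_iff_surjective.1 P.inj1 z

theorem surj2 (z : F) : ∃ c, θ c / c = z := by
  have := P.fin
  refine Finite.injective_iff_surjective.1 (fun c d (h : θ c / c = θ d / d) => ?_) z
  by_cases d0 : d = 0
  · simpa [d0] using h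
  by_cases c0 : c = 0
  · simpa [c0, d0] using h.symm
  have := (map_ne_zero θ).2 d0
  exact (div_eq_one_iff_eq d0).1 (P.g2 (by rw [map_div₀]; field_simp at h ⊢; exact h) (div_ne_zero c0 d0))

theorem scale {α : F} (h : α ≠ 0) : Pm S κ θ μ fun a b => e (α * a) (α * θ α * b) := by
  have h' := mul_ne_zero h ((map_ne_zero θ).2 h)
  refine ⟨P.two, P.pr, P.th, P.m0, P.m1, P.m2, fun _ _ => P.mem _ _, fun a b c d => ?_, fun a b c d h1 => ?_,
    fun s hs => ?_, fun a b => ?_⟩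
  · rw [P.mul, map_mul]; congr 1 <;> ring
  · exact (P.inj _ _ _ _ h1).imp (mul_left_cancel₀ h) (mul_left_cancel₀ h')
  · obtain ⟨a, b, rfl⟩ := P.surj s hs
    exact ⟨a / α, b / (α * θ α), by rw [mul_div_cancel₀ _ h, mul_div_cancel₀ _ h']⟩
  · rw [P.conj]; congr 1 <;> ring

theorem twist : Pm S κ θ.symm (θ μ) fun a b => e (θ.symm a) (b + a * θ.symm a) := by
  have := P.two
  refine ⟨P.two, P.pr, fun h => P.th (by rw [← θ.symm_symm, h]; rfl), (map_ne_zero θ).2 P.m0,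
    fun h => P.m1 (θ.injective (h.trans (map_one θ).symm)), by simpa [mul_comm] using P.m2,
    fun _ _ => P.mem _ _, fun a b c d => ?_, fun a b c d h1 => ?_, fun s hs => ?_, fun a b => ?_⟩
  · rw [P.mul, map_add, θ.apply_symm_apply]
    congr 1
    ring_nf
    simp [CharTwo.two_eq_zero]
  · obtain ⟨h2, h3⟩ := P.inj _ _ _ _ h1
    obtain rfl := θ.symm.injective h2
    exact ⟨rfl, add_right_cancel h3⟩
  · obtain ⟨a, b, rfl⟩ := P.surj s hs
    exact ⟨θ a, b + θ a * a, by simp [add_assoc, CharTwo.add_self_eq_zero]⟩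
  · rw [P.conj, map_mul, θ.symm_apply_apply]; congr 1; ring

theorem card : Nat.card S = Nat.card F ^ 2 := by
  rw [pow_two, ← Nat.card_prod]
  refine (Nat.card_eq_of_bijective (fun p : F × F => (⟨e p.1 p.2, P.mem _ _⟩ : S)) ⟨fun p q h => ?_, fun s => ?_⟩).symm
  · exact Prod.ext_iff.2 (P.inj _ _ _ _ (congrArg Subtype.val h))
  · obtain ⟨a, b, h⟩ := P.surj s s.2
    exact ⟨(a, b), Subtype.ext h⟩

theorem not_three : Nat.card F - 1 ≠ 3 := fun h => by
  have := P.fin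
  have := Fintype.ofFinite F
  have h3 : μ ^ 3 = 1 := by
    rw [← h, Nat.card_eq_fintype_card]; exact FiniteField.pow_card_sub_one_eq_one μ P.m0
  obtain ⟨i, hi⟩ := gen_pow P.pr P.m0 P.m1 ((map_ne_zero θ).2 P.m0)
  rw [pow_eq_pow_mod i h3] at hi
  have := Nat.mod_lt i (show 0 < 3 by omega)
  interval_cases i % 3
  · exact P.m1 (θ.injective (by simpa using hi.symm))
  · exact P.m1 (P.g2 (by simpa using hi.symm) P.m0)
  · exact P.m2 (by rw [← hi, ← pow_succ', h3])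

end Pm

/-- `τ` maps the point with coordinate `p` to the point with coordinate `q` -/
def Tm (S : Sylow 2 G) (τ p q : G) : Prop := τ • p • τ • S = q • τ • S

variable [Finite G]

namespace ZS

variable {S : Sylow 2 G} {κ τ u a : G} {n : ℕ} (Z : ZS S κ τ u a n) (h : EPPO G) (ti : TI G)
include Z

theorem tt (P : Sylow 2 G) : τ • τ • P = P := by rw [← mul_smul, Z.iv.1, one_smul]

theorem tsymm {p q : G} (t : Tm S τ p q) : Tm S τ q p := by rw [Tm, ← t, Z.tt]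

theorem trel {s s1 s2 p q r : G} (e : τ * s * τ⁻¹ = s1 * τ * s2) (t1 : Tm S τ p q) (t2 : Tm S τ (s2 * q) r) :
    Tm S τ (s * p) (s1 * r) := by
  rw [Tm, mul_smul] at *
  rw [mul_smul, ← t2, ← t1, ← mul_smul s2, ← mul_smul τ (s2 * τ), ← mul_smul s1, ← mul_smul τ s,
    mul_inv_eq_iff_eq_mul.1 e, mul_assoc, mul_assoc]

theorem tscale {p q : G} (t : Tm S τ p q) (i : ℕ) : Tm S τ (κ ^ i * p * (κ ^ i)⁻¹) ((κ ^ i)⁻¹ * q * κ ^ i) := by
  rw [Tm, mul_smul, mul_smul, mul_smul, mul_smul, Z.pfix, inv_smul_eq_iff.2 (Z.pfix i).symm, ← t, ← mul_smul,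
    mul_inv_eq_iff_eq_mul.1 (Z.pinv i), mul_smul]

theorem tne {q : G} (hq : q ∈ S) : ¬ Tm S τ 1 q := fun t => by
  rw [Tm, one_smul, Z.tt] at t
  exact Z.pt_ne hq t.symm

theorem t0 : Tm S τ u a := by
  rw [Tm, ← mul_smul, ← mul_smul, ← Z.iv.inv, Z.iv.inv, show τ * u * τ = τ * u * τ⁻¹ by rw [Z.iv.inv], Z.str,
    mul_smul, mul_smul, smul_eq_of_mem (inv_mem Z.amem)]

theorem r2 : τ * a * τ⁻¹ = u * τ * a := by
  have := Z.str
  rw [Z.iv.inv] at *
  rw [← mul_left_cancel_iff (a := τ), ← mul_assoc, ← mul_assoc, ← mul_assoc, ← mul_assoc, this, Z.iv.1]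
  group

theorem r3 : τ * a⁻¹ * τ⁻¹ = a⁻¹ * τ * u := by
  rw [← conj_inv, Z.r2, mul_inv_rev, mul_inv_rev, Z.iv.inv, Z.uiv.inv, mul_assoc]

include h ti

theorem tex {p : G} (hp : p ∈ S) (h1 : p ≠ 1) : ∃ q ∈ S, Tm S τ p q := by
  obtain ⟨q, q1, q2⟩ := Z.pts (τ • p • τ • S) fun e => h1 (Z.free h ti hp (by rw [← Z.tt (p • τ • S), e]))
  exact ⟨q, q1, q2.symm⟩

theorem tuniq {p q r : G} (hq : q ∈ S) (hr : r ∈ S) (t1 : Tm S τ p q) (t2 : Tm S τ p r) : q = r :=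
  Z.pt_inj h ti hq hr (t1.symm.trans t2)

theorem sq_eq (h3 : ¬ 3 ∣ Nat.card G) (h4 : a ^ 4 = 1) : a * a = u := by
  have e1 : a * (τ * u) * a⁻¹ = (τ * u) ^ 2 := by
    calc _ = a * τ * a⁻¹ * (a * u * a⁻¹) := by group
      _ = _ := by rw [← Z.str, (Z.cent u Z.umem Z.uiv.1 a Z.amem).eq, Z.iv.inv, pow_two]; group
  have e3 : u * (τ * u) * u⁻¹ = (τ * u)⁻¹ := by rw [mul_inv_rev, Z.iv.inv]; rw [Z.uiv.inv]; simp [mul_assoc, Z.uiv.1]
  have n1 : τ * u ≠ 1 := fun e => Z.tS (eq_inv_of_mul_eq_one_left e ▸ inv_mem Z.umem)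
  generalize τ * u = x at *
  have e4 : a * a * x * (a * a)⁻¹ = x ^ 4 := by
    rw [show a * a * x * (a * a)⁻¹ = a * (a * x * a⁻¹) * a⁻¹ by group, e1, ← conj_pow, e1, ← pow_mul]
  have e5 : x ^ 15 = 1 := by
    rw [← mul_left_inj x, one_mul, ← pow_succ, show 15 + 1 = 4 * 4 from rfl, pow_mul, ← e4, conj_pow, ← e4,
      show a * a * (a * a * x * (a * a)⁻¹) * (a * a)⁻¹ = a ^ 4 * x * (a ^ 4)⁻¹ by
        simp only [pow_succ, pow_zero, one_mul, mul_inv_rev, mul_assoc], h4]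
    simp
  have e6 : orderOf x ∣ 5 := (Nat.Coprime.dvd_mul_left ((Nat.prime_three.coprime_iff_not_dvd.2 fun e =>
    h3 (e.trans (orderOf_dvd_natCard x))).symm)).1 (orderOf_dvd_of_pow_eq_one (n := 3 * 5) e5)
  have := h.fpf (comm_of_conj_eq (e3.trans (e4.trans (eq_inv_of_mul_eq_one_left (by
    rw [← pow_succ]; exact orderOf_dvd_iff_pow_eq_one.1 e6))).symm))
    (pe_of_mem S.isPGroup' (mul_mem (inv_mem Z.umem) (mul_mem Z.amem Z.amem))) ((by decide : Odd 5).of_dvd_nat e6) n1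
  exact (inv_mul_eq_one.1 this).symm

variable {θ : F ≃+* F} {μ b : F} {e : F → F → G} (P : Pm S κ θ μ e) (ha : e 1 b = a) (hu : e 0 1 = u)
include P

omit h ti in
theorem csc {x y X Y c : F} (t : Tm S τ (e x y) (e X Y)) (c0 : c ≠ 0) :
    Tm S τ (e (c * x) (c * θ c * y)) (e (X / c) (Y / (c * θ c))) := by
  obtain ⟨i, rfl⟩ := gen_pow P.pr P.m0 P.m1 c0
  have := Z.tscale t i
  rwa [← mul_div_cancel₀ X c0, ← mul_div_cancel₀ Y (mul_ne_zero c0 ((map_ne_zero θ).2 c0)), ← P.conjp,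
    show ∀ k g : G, k⁻¹ * (k * g * k⁻¹) * k = g from fun _ _ => by group, P.conjp] at this

theorem cuniq {p : G} {X Y X' Y' : F} (t1 : Tm S τ p (e X Y)) (t2 : Tm S τ p (e X' Y')) : X = X' ∧ Y = Y' :=
  P.inj _ _ _ _ (Z.tuniq h ti (P.mem _ _) (P.mem _ _) t1 t2)

theorem cex {x y : F} (x0 : x ≠ 0) : ∃ X Y, Tm S τ (e x y) (e X Y) := by
  obtain ⟨q, q1, q2⟩ := Z.tex h ti (P.mem x y) fun e => x0 (P.inj _ _ _ _ (e.trans P.one.symm)).1
  obtain ⟨X, Y, rfl⟩ := P.surj q q1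
  exact ⟨X, Y, q2⟩

include ha hu

omit h ti in
theorem c1 {c : F} (c0 : c ≠ 0) : Tm S τ (e 0 (c * θ c)) (e c⁻¹ (b / (c * θ c))) := by
  simpa using Z.csc P (show Tm S τ (e 0 1) (e 1 b) from ha ▸ hu ▸ Z.t0) c0

omit h ti in
theorem c2 {c : F} (c0 : c ≠ 0) : Tm S τ (e c (c * θ c * b)) (e 0 (c * θ c)⁻¹) := by
  simpa using Z.csc P (show Tm S τ (e 1 b) (e 0 1) from ha ▸ hu ▸ Z.tsymm Z.t0) c0

theorem b01 : b = 0 ∨ b = 1 := by
  have := P.two
  by_contra hb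
  push Not at hb
  obtain ⟨c, hc⟩ := P.surj2 ((1 + b) / b)
  have b1 : 1 + b ≠ 0 := fun e => hb.2 (CharTwo.add_eq_zero.1 e).symm
  have c0 : c ≠ 0 := fun e => by simp [e, eq_comm (a := (0 : F)), hb.1, b1] at hc
  have c1 : 1 + c ≠ 0 := fun e => by
    rw [← CharTwo.add_eq_zero.1 e, map_one, div_one, eq_div_iff hb.1] at hc
    simp at hc
  obtain ⟨X, Y, t⟩ := Z.cex h ti P (y := b + (c * θ c)⁻¹) one_ne_zero
  have t1 := Z.trel Z.r2 (Z.c2 P ha hu c0) (r := e X Y) (by rwa [← ha, P.mul, add_zero, mul_zero, add_zero])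
  rw [← ha, ← hu, P.mul, P.mul, show b + c * θ c * b + θ 1 * c = (1 + c) * θ (1 + c) * b by
    rw [div_eq_div_iff c0 hb.1] at hc
    rw [map_add, map_one]
    linear_combination (exp := 1) -hc - c * b * CharTwo.two_eq_zero (R := F)] at t1
  obtain ⟨rfl, -⟩ := by simpa only [zero_add] using Z.cuniq h ti P t1 (Z.c2 P ha hu c1)
  obtain ⟨d, rfl⟩ := P.surj1 Y
  have d0 : d ≠ 0 := fun e' => Z.tne (P.mem _ _) (by simpa only [e', zero_mul, P.one] using Z.tsymm t)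
  obtain ⟨e1, e2⟩ := Z.cuniq h ti P (Z.tsymm t) (Z.c1 P ha hu d0)
  obtain rfl := inv_eq_one.1 e1.symm
  simp [c0] at e2

variable (b0 : b = 0)
include b0

theorem c4 {t : F} (t0 : t ≠ 0) : ∃ t', Tm S τ (e t t) (e t' t') := by
  have := P.two
  subst b0
  have ai : a⁻¹ = e 1 1 := by rw [← ha, P.inv]; simp
  by_cases t1 : t = 1
  · refine ⟨1, ?_⟩
    rw [t1, ← ai, Tm, ← mul_smul, ← mul_smul, show τ * a⁻¹ * τ = τ * a⁻¹ * τ⁻¹ by rw [Z.iv.inv], Z.r3,
      mul_smul, mul_smul, smul_eq_of_mem Z.umem]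
  obtain ⟨v, rfl⟩ : ∃ v, t = 1 + v := ⟨t - 1, by ring⟩
  have v0 : v ≠ 0 := fun e => t1 (by simp [e])
  obtain ⟨d, hd⟩ := P.surj1 (1 + (v * θ v)⁻¹)
  have d0 : d ≠ 0 := fun e => t0 (by
    rw [e, zero_mul, eq_comm, CharTwo.add_eq_zero, eq_comm, inv_eq_one] at hd
    rw [P.g1 hd, CharTwo.add_self_eq_zero])
  have := Z.trel Z.r3 (Z.c2 P ha hu v0) (r := e d⁻¹ (0 / (d * θ d))) (by
    rw [← hu, P.mul, map_zero, zero_mul, add_zero, add_zero, ← hd]
    exact Z.c1 P ha hu d0)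
  exact ⟨1 + d⁻¹, by simpa [ai, P.mul] using this⟩

theorem c5 {x y X Y : F} (t : Tm S τ (e x y) (e X Y)) : x * X = y * Y := by
  by_cases x0 : x = 0
  · obtain ⟨d, rfl⟩ := P.surj1 y
    have d0 : d ≠ 0 := fun e' => Z.tne (P.mem _ _) (by simpa only [e', x0, zero_mul, P.one] using t)
    simp [x0, (Z.cuniq h ti P (x0 ▸ t) (Z.c1 P ha hu d0)).2, b0]
  by_cases y0 : y = 0
  · have := Z.c2 P ha hu x0
    rw [b0, mul_zero, ← y0] at this
    simp [y0, (Z.cuniq h ti P t this).1]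
  obtain ⟨c, hc⟩ := θ.surjective (y / x)
  have c0 : c ≠ 0 := fun e => by simp [e, eq_comm (a := (0 : F)), x0, y0] at hc
  obtain ⟨t', t1⟩ := Z.c4 h ti P ha hu b0 (div_ne_zero x0 c0)
  have := Z.csc P t1 c0
  rw [mul_div_cancel₀ _ c0, show c * θ c * (x / c) = y by rw [hc]; field_simp] at this
  obtain ⟨rfl, rfl⟩ := Z.cuniq h ti P t this
  rw [hc]
  field_simp

theorem q0 {x : F} (y : F) (x0 : x ≠ 0) : ∃ N ≠ 0, Tm S τ (e x y) (e (y / N) (x / N)) := by
  obtain ⟨X, Y, t⟩ := Z.cex h ti P (y := y) x0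
  have Y0 : Y ≠ 0 := fun e' => by
    have X0 : X ≠ 0 := fun e'' => Z.tne (P.mem _ _) (by simpa only [e', e'', P.one] using Z.tsymm t)
    have := Z.c2 P ha hu X0
    rw [b0, mul_zero] at this
    exact x0 (Z.cuniq h ti P (Z.tsymm (e' ▸ t)) this).1
  have := Z.c5 h ti P ha hu b0 t
  refine ⟨x / Y, div_ne_zero x0 Y0, ?_⟩
  convert t using 2
  · field_simp
    linear_combination -this
  · field_simp

theorem q1 {x y N M : F} (x0 : x ≠ 0) (N0 : N ≠ 0) (M0 : M ≠ 0) (t : Tm S τ (e x y) (e (y / N) (x / N)))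
    (t' : Tm S τ (e x (y + 1)) (e ((y + 1) / M) (x / M))) : M = N + x + 1 := by
  have := P.two
  have ai : a⁻¹ = e 1 1 := by rw [← ha, P.inv]; simp [b0]
  obtain ⟨q, q1, q2⟩ := Z.tex h ti (mul_mem (inv_mem Z.amem) (P.mem (y / N) (x / N))) fun e' => x0 (by
    rw [← inv_mul_eq_one.1 e'] at t
    exact (P.inj _ _ _ _ ((Z.tuniq h ti (P.mem _ _) Z.umem (Z.tsymm t) (Z.tsymm Z.t0)).trans hu.symm)).1)
  obtain ⟨X, Y, rfl⟩ := P.surj q q1
  have t1 := Z.trel Z.str t q2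
  rw [ai, P.mul] at q2
  rw [← ha, ← hu, P.mul, P.mul, map_zero, zero_mul, zero_add, add_zero, add_comm 1 y] at t1
  obtain ⟨e1, e2⟩ := Z.cuniq h ti P t1 t'
  have e3 := Z.c5 h ti P ha hu b0 q2
  rw [b0, map_one] at *
  rw [eq_sub_of_add_eq' e1, eq_sub_of_add_eq' (show X + Y = x / M by linear_combination e2), eq_sub_of_add_eq' e1] at e3
  field_simp at e3
  refine mul_left_cancel₀ x0 ?_
  linear_combination -e3 + ((N + y) * (y + 1 - M) - x * N - x ^ 2) * CharTwo.two_eq_zero (R := F)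

theorem q3 {x y N M c : F} (x0 : x ≠ 0) (N0 : N ≠ 0) (M0 : M ≠ 0) (t : Tm S τ (e x y) (e (y / N) (x / N)))
    (t' : Tm S τ (e x (y + c * θ c)) (e ((y + c * θ c) / M) (x / M))) : M = N + x * (c * θ c) + c * (c * θ c) := by
  by_cases c0 : c = 0
  · simp only [c0, zero_mul, add_zero, mul_zero] at t' ⊢
    have := (Z.cuniq h ti P t t').2
    field_simp at this
    exact this
  have c1 := (map_ne_zero θ).2 c0
  have c2 := mul_ne_zero c0 (mul_ne_zero c0 c1)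
  have := Z.q1 h ti P ha hu b0 (y := y / (c * θ c)) (div_ne_zero x0 c0) (div_ne_zero N0 c2) (div_ne_zero M0 c2)
    (by convert Z.csc P t (inv_ne_zero c0) using 2 <;> (try rw [map_inv₀]) <;> field_simp)
    (by convert Z.csc P t' (inv_ne_zero c0) using 2 <;> (try rw [map_inv₀]) <;> field_simp)
  field_simp at this
  linear_combination this

theorem tits : (∀ c, θ (θ c) = c ^ 2) ∧ ∀ x y, ¬ (x = 0 ∧ y = 0) →
    Tm S τ (e x y) (e (y / (x * y + θ x * x ^ 2 + θ y)) (x / (x * y + θ x * x ^ 2 + θ y))) := by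
  have := P.two
  have two := CharTwo.two_eq_zero (R := F)
  choose γ hγ using P.surj1
  have g1 : ∀ c, γ (c * θ c) = c := fun c => P.inj1 (hγ _)
  have g2 : ∀ z w, γ (z * w) = γ z * γ w := fun z w => P.inj1 (by
    simp only [hγ, map_mul]; rw [mul_mul_mul_comm, hγ, hγ])
  have s0 : ∀ x, x ≠ 0 → Tm S τ (e x 0) (e (0 / (x * (x * θ x))) (x / (x * (x * θ x)))) := fun x x0 => by
    convert Z.c2 P ha hu x0 using 2
    · simp [b0]
    · simp
    · field_simp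
  have s1 : ∀ x y N, x ≠ 0 → N ≠ 0 → Tm S τ (e x y) (e (y / N) (x / N)) → N = x * (x * θ x) + x * y + γ y * y :=
    fun x y N x0 N0 t => by
      have := Z.q3 h ti P ha hu b0 (c := γ y) x0 (mul_ne_zero x0 (mul_ne_zero x0 ((map_ne_zero θ).2 x0))) N0
        (s0 x x0) (by rwa [hγ, zero_add])
      rwa [hγ] at this
  have ad : ∀ z w, γ (z + w) * (z + w) = γ z * z + γ w * w := fun z w => by
    obtain ⟨N, N0, t⟩ := Z.q0 h ti P ha hu b0 z one_ne_zero
    obtain ⟨M, M0, t'⟩ := Z.q0 h ti P ha hu b0 (z + w) one_ne_zero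
    have := Z.q3 h ti P ha hu b0 (c := γ w) one_ne_zero N0 M0 t (by rwa [hγ])
    rw [hγ] at this
    linear_combination this + s1 _ _ _ one_ne_zero N0 t - s1 _ _ _ one_ne_zero M0 t'
  have g0 : γ 1 = 1 := by simpa using g1 1
  have gp : ∀ i : ℕ, γ (μ ^ i) * μ ^ i = (γ μ * μ) ^ i := fun i => by
    induction i with
    | zero => simp [g0]
    | succ i ih => rw [pow_succ, g2, pow_succ, ← ih]; ring
  have a1 := g1 (μ + 1)
  have a2 := g1 μ
  have a3 := ad (μ * θ μ + μ + θ μ) 1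
  rw [show μ * θ μ + μ + θ μ + 1 = (μ + 1) * θ (μ + 1) by rw [map_add, map_one]; ring, a1, ad, ad, g0, a2,
    map_add, map_one] at a3
  have a4 : (γ μ * μ - μ ^ 2) * (γ μ * μ - θ μ) = 0 := by
    rw [g2] at a2
    linear_combination -(γ μ * μ) * a3 - μ * θ μ * a2 + γ μ * μ * (μ * θ μ + μ) * two
  have a5 : ∀ c, γ c * c = θ c := fun c => by
    by_cases c0 : c = 0
    · simp [c0]
    obtain ⟨i, rfl⟩ := gen_pow P.pr P.m0 P.m1 c0
    rcases mul_eq_zero.1 a4 with e1 | e1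
    · obtain ⟨j, hj⟩ := gen_pow P.pr P.m0 P.m1 (mul_ne_zero P.m0 ((map_ne_zero θ).2 P.m0))
      have := gp j
      rw [sub_eq_zero.1 e1, ← pow_mul, mul_comm 2, pow_mul, hj, a2, pow_two,
        mul_left_inj' (mul_ne_zero P.m0 ((map_ne_zero θ).2 P.m0)), left_eq_mul₀ P.m0] at this
      exact absurd (θ.injective (this.trans (map_one θ).symm)) P.m1
    · rw [gp, sub_eq_zero.1 e1, map_pow]
  have a6 : ∀ c, θ (θ c) = c ^ 2 := fun c => by
    by_cases c0 : c = 0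
    · simp [c0]
    have := a5 (c * θ c)
    rw [g1, map_mul] at this
    exact mul_left_cancel₀ ((map_ne_zero θ).2 c0) (by linear_combination -this)
  refine ⟨a6, fun x y h0 => ?_⟩
  by_cases x0 : x = 0
  · have c0 : γ y ≠ 0 := fun e => h0 ⟨x0, by rw [← hγ y, e, zero_mul]⟩
    have y0 : y ≠ 0 := fun e => h0 ⟨x0, e⟩
    have := Z.c1 P ha hu c0
    rw [hγ] at this
    convert this using 2
    · rw [x0, ← a5 y]; simp; field_simp
    · simp [x0, b0]
  obtain ⟨N, N0, t⟩ := Z.q0 h ti P ha hu b0 y x0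
  rwa [show x * y + θ x * x ^ 2 + θ y = N by rw [s1 x y N x0 N0 t, a5]; ring]

end ZS

end Cfsg.Agent.L0.EP
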