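import Cfsg.Agent.L0.EP.B3

/-! The rank two configuration: the two elementary abelian subgroups. -/

set_option autoImplicit false
set_option linter.unusedSectionVars false
set_option linter.unusedVariables false

namespace Cfsg.Agent.L0.EP

open Subgroup H3.BSW H2

variable {X : Type*} [Group X]

/-- one of the two large elementary abelian subgroups of `T` -/
structure Gam (E T : Subgroup X) (k t : X) (n : ℕ) : Prop where
  le : E ≤ T
  sq : ∀ v ∈ E, v * v = 1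
  comm : ∀ v ∈ E, ∀ w ∈ E, Commute v w
  card : Nat.card E = 2 ^ n * 2 ^ n
  cardZ : Nat.card (Z1 2 T) = 2 ^ n
  zle : Z1 2 T ≤ E
  com : ∀ t ∈ T, ∀ v ∈ E, t * v * t⁻¹ * v⁻¹ ∈ Z1 2 T
  fix : ∀ t ∈ T, t ∉ E → ∀ v ∈ E, Commute v t → v ∈ Z1 2 T
  tsq : ∀ t ∈ T, t * t ∈ E
  ord : orderOf k = 2 ^ n - 1
  kT : k ∈ normalizer (T : Set X)
  tE : ∀ z ∈ Z1 2 T, t * z * t⁻¹ ∈ E
  inv : t * k * t⁻¹ = k⁻¹
  disj : ∀ z ∈ Z1 2 T, t * z * t⁻¹ ∈ Z1 2 T → z = 1
  cz : ∀ v ∈ E, ∃ g, ∃ z ∈ Z1 2 T, v = g * z * g⁻¹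

variable [Finite X]

theorem Beta.gam {D T : Subgroup X} {κ τ u : X} {n : ℕ} (B : Beta D T κ τ u n) (L : Loc D T) (h : EPPO X)
    (hD : D ≤ Z1 2 D) : Gam D T κ τ n :=
  ⟨L.le, fun v hv => z1_sq (hD hv), fun v hv w hw => z1_comm (hD hv) hw,
    by rw [← B.cardV, le_antisymm (Z1_le D) hD], B.cardZ, fun z hz => (L.z_le' h hz).1,
    fun t ht v hv => B.com t ht v (hD hv), fun t ht h1 v hv => B.fix t ht h1 v (hD hv), B.sq, B.ord,
    mem_norm B.kT, fun z hz => nconj B.tY (L.z_le' h hz).1, B.inv, B.disj, fun v hv =>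
      let ⟨g, _, hg⟩ := B.conj_z L h (hD hv); ⟨g, hg⟩⟩

namespace Gam

variable {D E T : Subgroup X} {κ τ k t : X} {n : ℕ} (A : Gam D T κ τ n)
include A

theorem conj {g : X} (hg : g ∈ normalizer (T : Set X)) :
    Gam (D.map (MulAut.conj g).toMonoidHom) T (g * κ * g⁻¹) (g * τ * g⁻¹) n := by
  have m : ∀ v, v ∈ D.map (MulAut.conj g).toMonoidHom ↔ g⁻¹ * v * g ∈ D := fun v => by
    rw [mem_map_equiv]; simp
  have zc : ∀ z, g⁻¹ * z * g ∈ Z1 2 T → z ∈ Z1 2 T := fun z hz => by simpa [mul_assoc] using z1_conj hg hz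
  have zc' : ∀ z ∈ Z1 2 T, g⁻¹ * z * g ∈ Z1 2 T := fun z hz => by simpa using z1_conj (inv_mem hg) hz
  refine ⟨fun v hv => by simpa [mul_assoc] using nconj hg (A.le ((m v).1 hv)), ?_, ?_,
    by rw [card_map_of_injective (MulAut.conj g).injective, A.card], A.cardZ,
    fun z hz => (m z).2 (A.zle (zc' z hz)), fun s hs v hv => zc _ ?_, fun s hs h1 v hv hc => zc _ ?_,
    fun s hs => (m _).2 ?_, by rw [orderOf_conj', A.ord], mul_mem (mul_mem hg A.kT) (inv_mem hg),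
    fun z hz => (m _).2 ?_, ?_, fun z hz h1 => ?_, ?_⟩
  · rintro _ ⟨v, hv, rfl⟩
    rw [← map_mul, A.sq v hv, map_one]
  · rintro _ ⟨v, hv, rfl⟩ _ ⟨w, hw, rfl⟩
    exact (A.comm v hv w hw).map _
  · simpa [mul_assoc] using A.com _ (nconj' hg hs) _ ((m v).1 hv)
  · exact A.fix _ (nconj' hg hs) (fun e => h1 ((m s).2 e)) _ ((m v).1 hv) (by simpa using hc.conj g⁻¹)
  · simpa [mul_assoc] using A.tsq _ (nconj' hg hs)
  · simpa [mul_assoc] using A.tE _ (zc' z hz)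
  · rw [conj_inv (a := κ), ← A.inv]; group
  · have := A.disj _ (zc' z hz) (by simpa [mul_assoc] using zc' _ h1)
    rwa [← inv_inv g, inv_inv g⁻¹, conj_eq_one_iff] at this
  · rintro _ ⟨v, hv, rfl⟩
    obtain ⟨a, z, hz, rfl⟩ := A.cz v hv
    exact ⟨g * a, z, hz, by simp [mul_assoc]⟩

theorem cen {v s : X} (hv : v ∈ D) (h1 : v ∉ Z1 2 T) (hs : s ∈ T) (hc : Commute v s) : s ∈ D := by
  by_contra e
  exact h1 (A.fix s hs e v hv hc)

theorem nm {s v : X} (hs : s ∈ T) (hv : v ∈ D) : s * v * s⁻¹ ∈ D := by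
  simpa using mul_mem (A.zle (A.com s hs v hv)) hv

/-- commutation with a fixed element -/
def cm {v : X} (hv : v ∈ D) : T →* X where
  toFun s := s * v * (s : X)⁻¹ * v⁻¹
  map_one' := by simp
  map_mul' a b := by
    have h1 := (z1_comm (A.com b b.2 v hv) a.2).eq
    have h2 := (z1_comm (A.com b b.2 v hv) (A.com a a.2 v hv).1).eq
    simp only [coe_mul]
    calc _ = a * (b * v * (b : X)⁻¹ * v⁻¹) * (v * (a : X)⁻¹ * v⁻¹) := by group
      _ = _ := by rw [← h1, ← h2]; group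

theorem cm_apply {v : X} (hv : v ∈ D) (s : T) : A.cm hv s = s * v * (s : X)⁻¹ * v⁻¹ := rfl

theorem cm_mem {v : X} (hv : v ∈ D) (s : T) : A.cm hv s ∈ Z1 2 T := A.com s s.2 v hv

theorem cm_one {v : X} (hv : v ∈ D) (h1 : v ∉ Z1 2 T) {s : T} : A.cm hv s = 1 ↔ (s : X) ∈ D := by
  rw [cm_apply, mul_inv_eq_one]
  exact ⟨fun e => A.cen hv h1 s.2 (comm_of_conj e).symm, fun e => by rw [(A.comm _ e v hv).eq, mul_inv_cancel_right]⟩

theorem exists_v (n1 : 1 ≤ n) : ∃ v ∈ D, v ∉ Z1 2 T := by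
  by_contra e
  push Not at e
  have := card_le_of_le (show D ≤ Z1 2 T from e)
  rw [A.card, A.cardZ] at this
  have := Nat.one_lt_two_pow (n := n) (by omega)
  nlinarith

variable (C : Gam E T k t n) (ne : E ≠ D)
include C ne

theorem inter {v : X} (h1 : v ∈ D) (h2 : v ∈ E) : v ∈ Z1 2 T := by
  obtain ⟨b, b1, b2⟩ : ∃ b ∈ E, b ∉ D := by
    by_contra e
    push Not at e
    exact ne (eq_of_le_of_card_ge (show E ≤ D from e) (by rw [A.card, C.card]))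
  exact A.fix b (C.le b1) b2 v h1 (C.comm v h2 b b1)

theorem onto {v z : X} (hv : v ∈ D) (h1 : v ∉ Z1 2 T) (hz : z ∈ Z1 2 T) :
    ∃ e, ∃ he : e ∈ E, A.cm hv ⟨e, C.le he⟩ = z := by
  let f := (A.cm hv).comp (inclusion C.le)
  have e1 : f.ker = (Z1 2 T).subgroupOf E := by
    ext x
    exact (A.cm_one hv h1).trans ⟨fun e => A.inter C ne e x.2, fun e => A.zle e⟩
  have e2 := f.ker.card_mul_index
  rw [index_ker, e1, Nat.card_congr (subgroupOfEquivOfLe C.zle).toEquiv, C.card, C.cardZ,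
    Nat.mul_right_inj (by positivity)] at e2
  obtain ⟨e, he⟩ := eq_of_le_of_card_ge (show f.range ≤ Z1 2 T by
    rintro _ ⟨x, rfl⟩; exact A.cm_mem hv _) (by rw [e2, C.cardZ]) ▸ hz
  exact ⟨e, e.2, he⟩

variable (n1 : 1 ≤ n)
include n1

theorem decomp {s : X} (hs : s ∈ T) : ∃ e ∈ E, e⁻¹ * s ∈ D := by
  obtain ⟨v, v1, v2⟩ := A.exists_v n1
  obtain ⟨e, e1, e2⟩ := A.onto C ne v1 v2 (A.cm_mem v1 ⟨s, hs⟩)
  exact ⟨e, e1, (A.cm_one v1 v2 (s := ⟨e, C.le e1⟩⁻¹ * ⟨s, hs⟩)).1 (by rw [map_mul, map_inv, e2, inv_mul_cancel])⟩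

theorem invol {s : X} (hs : s ∈ T) (h2 : s * s = 1) : s ∈ D ∨ s ∈ E := by
  obtain ⟨e, e1, e2⟩ := A.decomp C ne n1 hs
  by_cases e3 : e ∈ D
  · exact Or.inl (by simpa using mul_mem e3 e2)
  have := A.fix e (C.le e1) e3 _ e2 (by
    have := A.sq _ e2
    rw [inv_eq_of_mul_eq_one_right (C.sq e e1)] at this ⊢
    change _ = _
    rw [← mul_assoc, C.sq e e1, one_mul, eq_inv_of_mul_eq_one_left ((mul_assoc (e * s) e s).trans this),
      inv_eq_of_mul_eq_one_right h2])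
  exact Or.inr (by simpa using mul_mem e1 (C.zle this))

theorem into {H : Subgroup X} (h1 : H ≤ T) (h2 : ∀ v ∈ H, v * v = 1) : H ≤ D ∨ H ≤ E := by
  by_contra e
  obtain ⟨⟨a, a1, a2⟩, b, b1, b2⟩ := by simpa only [not_or, SetLike.not_le_iff_exists] using e
  have a3 := (A.invol C ne n1 (h1 a1) (h2 a a1)).resolve_left a2
  have b3 := (A.invol C ne n1 (h1 b1) (h2 b b1)).resolve_right b2
  rcases A.invol C ne n1 (h1 (mul_mem a1 b1)) (h2 _ (mul_mem a1 b1)) with e | e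
  · exact a2 ((mul_mem_cancel_right b3).1 e)
  · exact b2 ((mul_mem_cancel_left a3).1 e)

theorem into' {g : X} (hg : ∀ v ∈ D, g * v * g⁻¹ ∈ T) :
    (∀ v ∈ D, g * v * g⁻¹ ∈ D) ∨ ∀ v ∈ D, g * v * g⁻¹ ∈ E := by
  refine (A.into C ne n1 (H := D.map (MulAut.conj g).toMonoidHom) ?_ ?_).imp
    (fun e v hv => e (mem_map_of_mem _ hv)) fun e v hv => e (mem_map_of_mem _ hv)
  · rintro _ ⟨v, hv, rfl⟩
    exact hg v hv
  · rintro _ ⟨v, hv, rfl⟩
    rw [← map_mul, A.sq v hv, map_one]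

theorem swap {g : X} (hg : g ∈ normalizer (T : Set X)) (h1 : g ∉ normalizer (D : Set X)) :
    (∀ v ∈ D, g * v * g⁻¹ ∈ E) ∧ ∀ v ∈ E, g * v * g⁻¹ ∈ D := by
  have a := (A.into' C ne n1 fun v hv => nconj hg (A.le hv)).resolve_left fun e => h1 (mem_norm e)
  refine ⟨a, (C.into' A ne.symm n1 fun v hv => nconj hg (C.le hv)).resolve_left fun e => ?_⟩
  obtain ⟨v, v1, v2⟩ := A.exists_v n1
  exact v2 (A.inter C ne v1 (by simpa [mul_assoc] using nconj' (mem_norm e) (a v v1)))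

theorem odd_norm {g : X} (hg : g ∈ normalizer (T : Set X)) (ho : Odd (orderOf g)) : g ∈ normalizer (D : Set X) := by
  by_contra e
  obtain ⟨a, b⟩ := A.swap C ne n1 hg e
  obtain ⟨m, hm⟩ := exists_sqrt ho
  rw [← pow_add, ← two_mul, pow_mul] at hm
  exact e (hm ▸ pow_mem (mem_norm fun v hv => by simpa [pow_two, mul_assoc] using b _ (a v hv)) m)

end Gam

theorem six {A : Type*} [AddCommGroup A] (h2 : ∀ x : A, x + x = 0) (M : A ≃+ A) (f : A →+ A)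
    (hf : ∀ x, f x = M (M (f (M x)))) {z : A} (tr : ∀ x, x ≠ 0 → ∃ i : ℕ, M^[i] z = x) (h1 : M z ≠ z) :
    M^[6] (f z) = f z := by
  obtain ⟨b, hb⟩ := tr (z + M z) fun e => h1 (by rw [← add_zero (M z), ← e, add_comm z, ← add_assoc, h2, zero_add])
  have ad : ∀ i x y, M^[i] (x + y) = M^[i] x + M^[i] y := fun i => iterate_map_add M i
  have e1 : ∀ x, M^[b] x = x + M x := fun x => by
    by_cases x0 : x = 0
    · simp [x0]
    obtain ⟨i, rfl⟩ := tr x x0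
    rw [← Function.iterate_add_apply, add_comm, Function.iterate_add_apply, hb, ad, ← Function.iterate_succ_apply,
      Function.iterate_succ_apply']
  have e2 : ∀ i x, M^[i] (M^[i] (f (M^[i] x))) = f x := fun i => by
    induction i with
    | zero => simp
    | succ i ih =>
      intro x
      rw [Function.iterate_succ_apply' M i x, Function.iterate_succ_apply, Function.iterate_succ_apply,
        ← Function.iterate_succ_apply' M i, Function.iterate_succ_apply, ← hf, ih]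
  have e3 := e2 b z
  simp only [e1, map_add] at e3
  have e4 := hf z
  generalize f (M z) = w at *
  rw [e4] at e3 ⊢
  have e5 : M (M (M (M w))) = M (M w) + w := by
    have := h2 (M (M (M w)))
    have := h2 (M w)
    have := h2 (M (M w))
    have := h2 w
    grind
  simp only [Function.iterate_succ_apply', Function.iterate_zero_apply]
  rw [e5]
  simp only [map_add, e5]
  have := h2 (M (M w))
  have := h2 w
  grind

theorem iter_conj {H : Subgroup X} (k : normalizer (H : Set X)) (i : ℕ) (z : H) :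
    ((H.normalizerMonoidHom k)^[i] z : X) = k ^ i * z * (k ^ i : X)⁻¹ := by
  induction i with
  | zero => simp
  | succ i ih =>
    rw [Function.iterate_succ_apply', pow_succ']
    exact (congrArg (fun x => k * x * (k : X)⁻¹) ih).trans (by group)

namespace Beta

variable {D T E : Subgroup X} {κ τ u k t : X} {n : ℕ} (B : Beta D T κ τ u n) (L : Loc D T) (h : EPPO X)
  (hD : D ≤ Z1 2 D)
include B L h

theorem stab {g : X} (h1 : g ∈ normalizer (T : Set X)) (h2 : g ∈ normalizer (D : Set X)) :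
    ∃ i : ℕ, (κ ^ i)⁻¹ * g ∈ T := by
  obtain ⟨z, z1, z2⟩ := B.exists_z L h
  obtain ⟨i, hi⟩ := B.trans L h z1 z2 (z1_conj h1 z1) (by simpa using z2)
  have e := L.syl.2.2 (centralizer {z} ⊓ normalizer (D : Set X)) inf_le_right (isPGroup_of_pe fun x hx =>
    h.pe_of_comm Nat.prime_two (mem_centralizer_singleton_iff.1 hx.1).symm (pe_of_sq (z1_sq z1)) z2)
    fun x hx => ⟨mem_centralizer_singleton_iff.2 (z1_comm z1 hx).symm, L.syl.1 hx⟩
  exact ⟨i, e ▸ mem_inf.2 ⟨mem_centralizer_singleton_iff.2 (comm_of_conj_eq hi),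
    mul_mem (inv_mem (pow_mem B.kY i)) h2⟩⟩

theorem comu {z : X} (hz : z ∈ Z1 2 T) : u * (τ * z * τ⁻¹) * u⁻¹ * (τ * z * τ⁻¹)⁻¹ = z := by
  have := (h.cube L.pg (B.yY L h) B.cube (B.y_ne L h) (L.z_le' h hz).1).2.2
  have e : u * τ * (u * τ) = (u * τ)⁻¹ := eq_inv_of_mul_eq_one_left (by rw [← B.cube]; simp [pow_succ])
  rw [show u * τ * (u * τ * z * (u * τ)⁻¹) * (u * τ)⁻¹ = u * τ * (u * τ) * z * (u * τ * (u * τ))⁻¹ by group, e,
    show (u * τ)⁻¹ * z * (u * τ)⁻¹⁻¹ = τ⁻¹ * (u⁻¹ * (z * u)) * τ by group, (z1_comm hz B.uT).eq,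
    inv_mul_cancel_left, mul_assoc z, B.iv.inv] at this
  refine Eq.trans ?_ ((inv_eq_of_mul_eq_one_right this).symm.trans (inv_eq_of_mul_eq_one_right (z1_sq hz)))
  rw [conj_inv, inv_eq_of_mul_eq_one_right (z1_sq hz), mul_inv_rev, B.iv.inv]
  simp only [mul_assoc]

include hD

theorem cmk {z : X} (hz : z ∈ Z1 2 T) (i : ℕ) (s : T) :
    (B.gam L h hD).cm (nconj B.tY (L.z_le' h hz).1) ⟨κ ^ i * s * (κ ^ i)⁻¹, nconj (pow_mem (mem_norm B.kT) i) s.2⟩ =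
    κ ^ i * (κ ^ i * (B.gam L h hD).cm (nconj B.tY (L.z_le' h hz).1) s * (κ ^ i)⁻¹) * (κ ^ i)⁻¹ := by
  set A := B.gam L h hD
  have hv := nconj B.tY (L.z_le' h hz).1
  have c1 : ∀ s : T, (s : X) ∈ D → A.cm hv s = 1 := fun s hs => by
    rw [A.cm_apply, (A.comm _ hs _ hv).eq, mul_inv_cancel_right, mul_inv_cancel]
  have c2 : ∀ j : ℕ, A.cm hv ⟨κ ^ j * u * (κ ^ j)⁻¹, nconj (pow_mem A.kT j) B.uT⟩ =
      κ ^ j * (κ ^ j * z * (κ ^ j)⁻¹) * (κ ^ j)⁻¹ := fun j => by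
    rw [← B.comu L h (z1_conj (pow_mem A.kT j) hz), A.cm_apply,
      show τ * (κ ^ j * z * (κ ^ j)⁻¹) * τ⁻¹ = τ * κ ^ j * τ⁻¹ * (τ * z * τ⁻¹) * (τ * κ ^ j * τ⁻¹)⁻¹ by group,
      inv_pow_conj B.inv]
    group
  by_cases e : (s : X) ∈ D
  · rw [c1 s e, c1 _ (nconj (pow_mem B.kY i) e)]
    simp
  obtain ⟨j, hj⟩ := B.gen s s.2 e
  have a := c1 (s⁻¹ * ⟨_, nconj (pow_mem A.kT j) B.uT⟩) hj
  have b := c1 ((⟨_, nconj (pow_mem A.kT i) s.2⟩ : T)⁻¹ * ⟨_, nconj (pow_mem A.kT (i + j)) B.uT⟩) (by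
    simpa [mul_assoc, pow_add] using nconj (pow_mem B.kY i) hj)
  rw [map_mul, map_inv, inv_mul_eq_one, c2] at a b
  rw [a, b, pow_add, show κ ^ i * κ ^ j * (κ ^ i * κ ^ j * z * (κ ^ i * κ ^ j)⁻¹) * (κ ^ i * κ ^ j)⁻¹ =
    κ ^ i * (κ ^ j * κ ^ i * κ ^ j * z * (κ ^ j * κ ^ i * κ ^ j)⁻¹) * (κ ^ i)⁻¹ by group, pow_mul_comm]
  group

theorem two_of (C : Gam E T k t n) (ne : E ≠ D) (n2 : 2 ≤ n) : n = 2 := by
  set A := B.gam L h hD
  obtain ⟨z, z1, z2⟩ := B.exists_z L h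
  have hv := nconj B.tY (L.z_le' h z1).1
  have ok : Odd (orderOf k) := C.ord.trans B.ord.symm ▸ B.oddk L h
  obtain ⟨j, hj⟩ := B.stab L h C.kT (A.odd_norm C ne B.one C.kT ok)
  let _ : CommGroup (Z1 2 T) := { (inferInstance : Group (Z1 2 T)) with
    mul_comm := fun a b => Subtype.ext (z1_comm a.2 b.2.1) }
  let f0 : Z1 2 T →* T := ((MulAut.conj t).toMonoidHom.comp (Z1 2 T).subtype).codRestrict T fun x => C.le (C.tE x x.2)
  let f : Z1 2 T →* Z1 2 T := ((A.cm hv).comp f0).codRestrict _ fun x => A.cm_mem hv _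
  let k' : normalizer (Z1 2 T : Set X) := ⟨k, normalizer_le_Z1 T C.kT⟩
  have kz : ∀ x ∈ Z1 2 T, k * x * k⁻¹ = κ ^ j * x * (κ ^ j)⁻¹ := fun x hx => by
    rw [← mul_inv_cancel_left (κ ^ j) k, mul_assoc (κ ^ j), mul_assoc (κ ^ j), ← (z1_comm hx hj).eq]; group
  have k1 : k ≠ 1 := fun e => by
    have := C.ord
    have := Nat.pow_le_pow_right two_pos n2
    rw [e, orderOf_one] at *
    omega
  have := six (A := Additive (Z1 2 T)) (fun x => Subtype.ext (z1_sq x.toMul.2))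
    ((Z1 2 T).normalizerMonoidHom k').toAdditive f.toAdditive (fun x => Subtype.ext ?_)
    (z := Additive.ofMul ⟨z, z1⟩) (fun x x0 => ?_) fun e => z2 (h.fpf (comm_of_conj (congrArg Subtype.val e)).symm
      (pe_of_sq (z1_sq z1)) ok k1)
  · have e := (iter_conj k' 6 (f ⟨z, z1⟩)).symm.trans (congrArg Subtype.val this)
    have f1 : (f ⟨z, z1⟩ : X) ≠ 1 := fun e => z2 (C.disj z z1 (A.inter C ne ((A.cm_one hv
      (fun e => z2 (B.disj z z1 e))).1 e) (C.tE z z1)))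
    have := orderOf_dvd_of_pow_eq_one (h.eq_one_of_comm (comm_of_conj e).symm (pe_of_sq (z1_sq (f _).2)) f1
      (odd_pow ok 6))
    rw [show (k' : X) = k from rfl, C.ord] at this
    by_contra n3
    have := Nat.pow_le_pow_right two_pos (show 3 ≤ n by omega)
    have := Nat.le_of_dvd (by omega) ‹_ ∣ 6›
    omega
  · set y : Z1 2 T := (Z1 2 T).normalizerMonoidHom k' x.toMul
    have e : f0 x.toMul = ⟨κ ^ j * (⟨_, hj⟩ * f0 y * ⟨_, hj⟩⁻¹ : T) * (κ ^ j)⁻¹,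
        nconj (pow_mem A.kT j) (Subtype.property _)⟩ := Subtype.ext (by
      change t * (x.toMul : X) * t⁻¹ = κ ^ j * ((κ ^ j)⁻¹ * k * (t * (k * x.toMul * k⁻¹) * t⁻¹) * ((κ ^ j)⁻¹ * k)⁻¹) * _
      rw [show t * (k * x.toMul * k⁻¹) * t⁻¹ = t * k * t⁻¹ * (t * x.toMul * t⁻¹) * (t * k * t⁻¹)⁻¹ by group, C.inv]
      group)
    change A.cm hv (f0 x.toMul) = k * (k * A.cm hv (f0 y) * k⁻¹) * k⁻¹
    rw [e, B.cmk L h hD z1, kz _ (A.cm_mem hv _), kz _ (z1_conj (pow_mem A.kT j) (A.cm_mem hv _)), map_mul, map_mul,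
      map_inv, ← (z1_comm (A.cm_mem hv (f0 y)) (A.cm_mem hv _).1).eq, mul_inv_cancel_right]
  · obtain ⟨i, hi⟩ := h.reg_trans (L.syl.2.1.to_le (Z1_le T)) ok (fun z hz => z1_conj C.kT hz)
      (by rw [C.cardZ, C.ord, Nat.sub_add_cancel Nat.one_le_two_pow]) z1 z2 x.toMul.2 fun e => x0 (Subtype.ext e)
    exact ⟨i, Subtype.ext ((iter_conj k' i ⟨z, z1⟩).trans hi)⟩

end Beta

end Cfsg.Agent.L0.EP
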