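import Cfsg.Agent.L0.EP.D0
import Cfsg.Agent.L0.EP.C0

/-! The rank two configuration: the two elementary abelian subgroups are not fused. -/

set_option autoImplicit false
set_option linter.unusedSectionVars false
set_option linter.unusedVariables false

namespace Cfsg.Agent.L0.EP

open Subgroup H3.BSW H2

variable {X : Type*} [Group X] [Finite X]

theorem thompson [IsSimpleGroup X] (hG : ¬ IsMulCommutative X) (M : Subgroup X)
    (hM : M.index % 4 = 2) {s : X} (hs : s ^ 2 = 1) : ∃ g, g⁻¹ * s * g ∈ M := by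
  classical
  have := Fintype.ofFinite (X ⧸ M)
  by_contra hc
  push Not at hc
  have h1 := Abelianization.commutator_subset_ker (Equiv.Perm.sign.comp (MulAction.toPermHom X (X ⧸ M)))
    (comm_top hG ▸ mem_top s)
  have h2 : IsEmpty (Function.fixedPoints (MulAction.toPermHom X (X ⧸ M) s)) := ⟨fun ⟨x, hx⟩ => by
    obtain ⟨g, rfl⟩ := QuotientGroup.mk_surjective x
    have h3 : ((s * g : X) : X ⧸ M) = g := hx
    have h4 := QuotientGroup.eq.1 h3.symm
    exact hc g (by rwa [mul_assoc])⟩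
  rw [MonoidHom.mem_ker, MonoidHom.comp_apply, Equiv.Perm.sign_of_pow_two_eq_one (by rw [← map_pow, hs, map_one]),
    @Fintype.card_eq_zero _ _ h2, Nat.sub_zero, ← Nat.card_eq_fintype_card, ← Subgroup.index,
    Odd.neg_one_pow (Nat.odd_iff.2 (by omega))] at h1
  exact absurd h1 (by decide)

/-- the extension of `T` by a normalising involution -/
def Ext {T : Subgroup X} {g : X} (h1 : g ∈ normalizer (T : Set X)) (h2 : g * g = 1) : Subgroup X where
  carrier := {x | x ∈ T ∨ x * g ∈ T}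
  one_mem' := Or.inl (one_mem _)
  mul_mem' := by
    rintro a b (ha | ha) (hb | hb)
    · exact Or.inl (mul_mem ha hb)
    · exact Or.inr (mul_assoc a b g ▸ mul_mem ha hb)
    · exact Or.inr (by simpa [mul_assoc] using mul_mem ha (nconj' h1 hb))
    · exact Or.inl (by simpa [mul_assoc, h2] using mul_mem ha (nconj' h1 hb))
  inv_mem' := by
    rintro a (ha | ha)
    · exact Or.inl (inv_mem ha)
    · refine Or.inr ?_
      have := nconj h1 (inv_mem ha)
      rwa [mul_inv_rev, mul_inv_cancel_left, inv_eq_of_mul_eq_one_right h2] at this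

theorem Beta.invol {D T : Subgroup X} {κ τ u g : X} (B : Beta D T κ τ u 2) (L : Loc D T) (h : EPPO X)
    (hD : D ≤ Z1 2 D) (g1 : g ∈ normalizer (T : Set X)) (g2 : g * g ∈ T) (g3 : g ∉ normalizer (D : Set X)) :
    ∃ g ∈ normalizer (T : Set X), g * g = 1 ∧ g ∉ normalizer (D : Set X) ∧ g * κ * g⁻¹ = κ⁻¹ := by
  have A := B.gam L h hD
  have C := A.conj g1
  have ok := B.oddk L h
  have k3 : κ ^ 3 = 1 := by rw [show 3 = orderOf κ from B.ord.symm, pow_orderOf_eq_one]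
  have k1 : κ ≠ 1 := fun e => by simpa [e] using B.ord
  obtain ⟨j, hj⟩ := B.stab L h C.kT (A.odd_norm C (fun e => g3 (mem_norm fun v hv => e ▸ mem_map_of_mem _ hv))
    B.one C.kT (odd_conj ok g))
  have j1 : κ ^ j ≠ 1 := fun e => k1 (by
    simpa using (pe_of_mem L.syl.2.1 (by simpa [e] using hj)).eq_one (odd_conj ok g))
  obtain ⟨x, x1, x2⟩ := lang (c := κ ^ j) (fun x hx => nconj' (pow_mem A.kT j) hx)
    (fun x hx e => h.fpf e (pe_of_mem L.syl.2.1 hx) (odd_pow ok j) j1) hj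
  have e1 : x⁻¹ * g * κ * (x⁻¹ * g)⁻¹ = κ ^ j := by
    rw [mul_inv_cancel_left] at x2
    rw [show x⁻¹ * g * κ * (x⁻¹ * g)⁻¹ = x⁻¹ * (g * κ * g⁻¹) * x by group, x2]; group
  have e2 : x⁻¹ * g * (x⁻¹ * g) ∈ T := by
    simpa [mul_assoc] using mul_mem (mul_mem (inv_mem x1) (nconj g1 (inv_mem x1))) g2
  have e3 : x⁻¹ * g ∉ normalizer (D : Set X) := fun e => g3 ((mul_mem_cancel_left (inv_mem (L.syl.1 x1))).1 e)
  have e4 : κ ^ j = κ⁻¹ := by
    rw [pow_eq_pow_mod j k3] at e1 j1 ⊢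
    have := Nat.mod_lt j (show 0 < 3 by omega)
    interval_cases j % 3
    · exact absurd (pow_zero κ) j1
    · exact absurd (h.fpf (comm_of_conj (e1.trans (pow_one κ))) (pe_of_mem L.syl.2.1 e2).of_sq ok k1 ▸ one_mem _) e3
    · exact eq_inv_of_mul_eq_one_left (by rwa [← pow_succ])
  rw [e4] at e1
  refine ⟨_, mul_mem (inv_mem (le_normalizer x1)) g1, h.fpf (comm_of_conj ?_) (pe_of_mem L.syl.2.1 e2) ok k1, e3, e1⟩
  generalize x⁻¹ * g = y at *
  rw [show y * y * κ * (y * y)⁻¹ = y * (y * κ * y⁻¹) * y⁻¹ by group, e1, ← conj_inv, e1, inv_inv]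

theorem Beta.not_fused [IsSimpleGroup X] (hG : ¬ IsMulCommutative X) {D T : Subgroup X} {κ τ u g : X}
    (B : Beta D T κ τ u 2) (L : Loc D T) (h : EPPO X) (hD : D ≤ Z1 2 D) (g1 : g ∈ normalizer (T : Set X))
    (g2 : g * g ∈ T) (g3 : g ∉ normalizer (D : Set X)) : False := by
  obtain ⟨g, g1, g2, g3, g4⟩ := B.invol L h hD g1 g2 g3
  have A := B.gam L h hD
  have C := A.conj g1
  have ne : D.map (MulAut.conj g).toMonoidHom ≠ D := fun e => g3 (mem_norm fun v hv => e ▸ mem_map_of_mem _ hv)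
  generalize D.map (MulAut.conj g).toMonoidHom = E at C ne
  have gi := inv_eq_of_mul_eq_one_right g2
  have gT : g ∉ T := fun e => g3 (L.syl.1 e)
  set R := Ext g1 g2
  have mR : ∀ x, x ∈ R ↔ x ∈ T ∨ x * g ∈ T := fun x => Iff.rfl
  have TR : T ≤ R := fun x => Or.inl
  have gR : g ∈ R := Or.inr (g2 ▸ one_mem _)
  have sqR : ∀ x ∈ R, x * x ∈ T := by
    rintro x (e | e)
    · exact mul_mem e e
    · simpa [mul_assoc, g2] using mul_mem e (nconj' g1 e)
  have pR : IsPGroup 2 R := isPGroup_of_pe fun x hx => (pe_of_mem L.syl.2.1 (sqR x hx)).of_sq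
  have i2 : T.relIndex R = 2 := index_eq_two_iff.2 ⟨⟨g, gR⟩, fun b => by
    simp only [mem_subgroupOf, coe_mul]
    by_cases e : (b : X) ∈ T
    · exact Or.inr ⟨e, fun e' => gT ((mul_mem_cancel_left e).1 e')⟩
    · exact Or.inl ⟨b.2.resolve_left e, e⟩⟩
  have fixZ : ∀ x, x * g ∈ T → ∀ w ∈ T, w * w = 1 → Commute x w → w ∈ Z1 2 T := fun x hx w w1 w2 w3 => by
    obtain ⟨a, b⟩ := A.swap C ne B.one ((mul_mem_cancel_right g1).1 (le_normalizer hx)) fun e =>
      g3 ((mul_mem_cancel_left e).1 (L.syl.1 hx))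
    rcases A.invol C ne B.one w1 w2 with e | e
    · exact A.inter C ne e (by simpa [w3.eq] using a w e)
    · exact A.inter C ne (by simpa [w3.eq] using b w e) e
  have small : ∀ H ≤ R, (∀ v ∈ H, v * v = 1) → ∀ x, x * g ∈ T → (∀ v ∈ H, Commute x v) → Nat.card H ≤ 8 :=
    fun H h1 h2 x x1 x2 => by
      have a := relIndex_le_of_le_right (H := T) h1 (by omega)
      have b := (T.subgroupOf H).card_mul_index
      have c := card_le_of_le (show T ⊓ H ≤ Z1 2 T from fun w hw => fixZ x x1 w hw.1 (h2 w hw.2) (x2 w hw.2))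
      rw [← inf_subgroupOf_right, Nat.card_congr (subgroupOfEquivOfLe inf_le_right).toEquiv,
        inf_subgroupOf_right] at b
      rw [A.cardZ] at c
      rw [i2, relIndex] at a
      nlinarith
  have big : ∀ {F : Subgroup X} {a b : X}, Gam F T a b 2 → ∀ c : X, (∀ v ∈ F, c * v * c⁻¹ ∈ R) →
      ∀ x, x * g ∈ T → ¬ ∀ v ∈ F, Commute x (c * v * c⁻¹) := fun {F a b} A c hc x x1 x2 => by
    have := small (F.map (MulAut.conj c).toMonoidHom) (by rintro _ ⟨v, hv, rfl⟩; exact hc v hv)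
      (by rintro _ ⟨v, hv, rfl⟩; rw [← map_mul, A.sq v hv, map_one]) x x1 (by rintro _ ⟨v, hv, rfl⟩; exact x2 v hv)
    rw [card_map_of_injective (MulAut.conj c).injective, A.card] at this
    omega
  have big' : ∀ {F : Subgroup X} {a b : X}, Gam F T a b 2 → ∀ c : X, (∀ v ∈ F, c * v * c⁻¹ ∈ R) →
      ∀ v ∈ F, c * v * c⁻¹ ∈ T := fun {F a b} A c hc v hv => ((hc v hv).resolve_right fun e =>
    big A c hc _ e fun w hw => (A.comm v hv w hw).conj c)
  have mx : ∀ S : Subgroup X, IsPGroup 2 S → R ≤ S → S = R := fun S s1 s2 => by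
    by_contra e
    obtain ⟨x, x1, x2⟩ := SetLike.exists_of_lt (lt_inf_normalizer s1 (lt_of_le_of_ne s2 (Ne.symm e)))
    have x3 : x ∈ normalizer (T : Set X) := mem_norm fun s hs => by
      obtain ⟨e, e1, e2⟩ := A.decomp C ne B.one hs
      simpa [mul_assoc] using mul_mem (big' C x (fun v hv => nconj x1.2 (TR (C.le hv))) e e1)
        (big' A x (fun v hv => nconj x1.2 (TR (A.le hv))) _ e2)
    have sy := L.syl.2.2 (S ⊓ normalizer (D : Set X)) inf_le_right s1.to_inf_left (le_inf (TR.trans s2) L.syl.1)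
    by_cases e : x ∈ normalizer (D : Set X)
    · exact x2 (Or.inl (sy ▸ mem_inf.2 ⟨x1.1, e⟩))
    refine x2 (Or.inr (sy ▸ mem_inf.2 ⟨mul_mem x1.1 (s2 gR), mem_norm fun v hv => ?_⟩))
    simpa [mul_assoc] using (A.swap C ne B.one x3 e).2 _ ((A.swap C ne B.one g1 g3).1 v hv)
  obtain ⟨S, hS⟩ := pR.exists_le_sylow
  have i3 := mx _ S.isPGroup' hS ▸ S.not_dvd_index
  have i4 := i2 ▸ relIndex_mul_index TR
  obtain ⟨c, hc⟩ := thompson hG T (s := g) (by omega) (by rwa [pow_two])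
  obtain ⟨v, v1, v2⟩ := A.exists_v B.one
  have e1 := (A.swap C ne B.one g1 g3).1 v v1
  have wT := mul_mem (A.le v1) (C.le e1)
  have w1 : g * (v * (g * v * g⁻¹)) * g⁻¹ = (v * (g * v * g⁻¹))⁻¹ := by
    rw [mul_inv_rev, conj_inv, inv_eq_of_mul_eq_one_right (A.sq v v1), gi]
    simp only [mul_assoc, g2, mul_one]
  have z1 : v * (g * v * g⁻¹) * (v * (g * v * g⁻¹)) ∈ Z1 2 T := A.inter C ne (A.tsq _ wT) (C.tsq _ wT)
  have z2 : v * (g * v * g⁻¹) * (v * (g * v * g⁻¹)) ≠ 1 := fun e => v2 (by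
    have := A.cen v1 v2 (C.le e1) (by
      change _ = _
      rw [eq_inv_of_mul_eq_one_left e, mul_inv_rev, inv_eq_of_mul_eq_one_right (A.sq v v1),
        inv_eq_of_mul_eq_one_right (C.sq _ e1)])
    simpa [mul_assoc] using z1_conj (inv_mem g1) (A.inter C ne this e1))
  generalize v * (g * v * g⁻¹) = w at *
  have z3 : g * (w * w) * g⁻¹ = w * w := by
    rw [← conj_mul, w1, ← mul_inv_rev, inv_eq_of_mul_eq_one_right (z1_sq z1)]
  have cR : centralizer {w * w} = R := mx _ (isPGroup_of_pe fun x hx => h.pe_of_comm Nat.prime_two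
    (mem_centralizer_singleton_iff.1 hx).symm (pe_of_sq (z1_sq z1)) z2) fun x hx =>
      mem_centralizer_singleton_iff.2 (by
        rcases hx with e | e
        · exact (z1_comm z1 e).symm
        · simpa [mul_assoc, g2] using ((z1_comm z1 e).symm.mul_left (comm_of_conj z3)).eq)
  obtain ⟨c, hg⟩ : ∃ c, g = c * (w * w) * c⁻¹ := by
    obtain ⟨a, z, hz, e⟩ : ∃ a, ∃ z ∈ Z1 2 T, c⁻¹ * g * c = a * z * a⁻¹ :=
      (A.invol C ne B.one hc (by simp [mul_assoc, ← mul_assoc g g, g2])).elim (A.cz _) (C.cz _)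
    obtain ⟨i, rfl⟩ := B.trans L h z1 z2 hz fun e' => gT (by
      rw [e', mul_one, mul_inv_cancel, ← inv_inv c, inv_inv c⁻¹, conj_eq_one_iff] at e
      exact e ▸ one_mem _)
    exact ⟨c * a * κ ^ i, by rw [← mul_left_inj c, ← mul_right_inj c⁻¹, ← mul_assoc, e]; group⟩
  have k3 : κ ^ 3 = 1 := by rw [show 3 = orderOf κ from B.ord.symm, pow_orderOf_eq_one]
  have y1 := z1_conj A.kT z1
  have t1 : w * (κ * (w * w) * κ⁻¹) * (w * (κ * (w * w) * κ⁻¹)) = w * w := by
    rw [mul_assoc w, ← mul_assoc _ w, (z1_comm y1 wT).eq, mul_assoc w, z1_sq y1, mul_one]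
  have t2 : Commute g (w * (κ * (w * w) * κ⁻¹)) := comm_of_conj (by
    have a := (h.cube L.syl.2.1 A.kT k3 (fun e => by simpa [e] using B.ord) z1.1).2.2
    have b : κ * κ = κ⁻¹ := eq_inv_of_mul_eq_one_left (by rw [← k3]; simp [pow_succ])
    rw [← conj_mul (a := w) (b := g), w1, show g * (κ * (w * w) * κ⁻¹) * g⁻¹ = g * κ * g⁻¹ * (g * (w * w) * g⁻¹) * (g * κ * g⁻¹)⁻¹
      by group, g4, z3, show κ⁻¹ * (w * w) * κ⁻¹⁻¹ = κ * (κ * (w * w) * κ⁻¹) * κ⁻¹ by
        rw [show κ * (κ * (w * w) * κ⁻¹) * κ⁻¹ = κ * κ * (w * w) * (κ * κ)⁻¹ by group, b],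
      eq_inv_of_mul_eq_one_right a, inv_eq_of_mul_eq_one_right (z1_sq (mul_mem z1 y1))]
    group)
  generalize w * (κ * (w * w) * κ⁻¹) = s at *
  have x1 : c⁻¹ * s * c ∈ R := cR ▸ mem_centralizer_singleton_iff.2 (by
    simpa [hg, mul_assoc] using (t2.symm.conj c⁻¹).eq)
  have x2 : c⁻¹ * s * c * (c⁻¹ * s * c) = c⁻¹ * (w * w) * c := by rw [← t1]; group
  have x3 : c⁻¹ * (w * w) * c ∈ Z1 2 T := by
    have a := sqR _ x1
    rcases x1 with e | e
    · exact x2 ▸ A.inter C ne (A.tsq _ e) (C.tsq _ e)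
    · refine fixZ _ e _ (x2 ▸ a) ?_ (x2 ▸ (Commute.refl _).mul_right (Commute.refl _))
      rw [← inv_inv c, inv_inv c⁻¹, conj_mul, z1_sq z1]; simp
  refine big A c (fun v hv => cR ▸ mem_centralizer_singleton_iff.2 ?_) g (g2 ▸ one_mem _)
    fun v hv => hg ▸ (z1_comm z1 (A.le hv)).conj c
  simpa [mul_assoc] using ((z1_comm x3 (A.le hv)).symm.conj c).eq

end Cfsg.Agent.L0.EP
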